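import Mathlib
import Cfsg.Agent.Lib.CoType.Frame
import Cfsg.Agent.Lib.Classical.Witt

/-!
Linear algebra of the eight-dimensional space of plus type: perpendiculars, totally singular subspaces,
moved spaces, and the maps fixed by a pair of singular vectors.
-/

set_option autoImplicit false
set_option linter.style.haveILetI false
set_option linter.unusedSimpArgs false

namespace CfsgLib.CoOneWeak

open CfsgLib.Classical CfsgLib.CoType

/-- Subspaces. -/
abbrev Sub := Submodule (ZMod 2) V8

/-- The displacement. -/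
def Mv (y : qAut qm) : V8 →ₗ[ZMod 2] V8 := y.1.toLinearMap + LinearMap.id

theorem Mv_apply (y : qAut qm) (v : V8) : Mv y v = y.1 v + v := rfl

theorem Mv_one (v : V8) : Mv 1 v = 0 := add_self8 v

theorem Mv_eq_zero {y : qAut qm} {v : V8} : Mv y v = 0 ↔ y.1 v = v :=
  ⟨fun h => eq8 h, fun h => by rw [Mv_apply, h, add_self8]⟩

theorem Mv_mul (a b : qAut qm) (v : V8) : Mv (a * b) v = Mv a (Mv b v) + Mv b v + Mv a v := by
  simp only [Mv_apply, qAut_mul_apply, map_add]
  simp [add_comm, add_left_comm, add_cancel8, add_self8]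

theorem Mv_mul' (a b : qAut qm) (v : V8) : Mv (a * b) v = a.1 (Mv b v) + Mv a v := by
  simp only [Mv_apply, qAut_mul_apply, map_add]
  simp [add_comm, add_left_comm, add_cancel8, add_self8]

theorem Mv_sq (y : qAut qm) (v : V8) : Mv (y * y) v = Mv y (Mv y v) := by
  rw [Mv_mul, add_assoc, add_self8, add_zero]

theorem Mv_conj_comm {a b : qAut qm} (h : a * b = b * a) (v : V8) : Mv a (b.1 v) = b.1 (Mv a v) := by
  rw [Mv_apply, Mv_apply, map_add, ← qAut_mul_apply, h, qAut_mul_apply]

theorem eq_one_of_Mv {y : qAut qm} (h : ∀ v, Mv y v = 0) : y = 1 :=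
  qAut_ext fun v => Mv_eq_zero.1 (h v)

/-- The moved space. -/
def Wg (y : qAut qm) : Sub := LinearMap.range (Mv y)

/-- The fixed space. -/
def Kg (y : qAut qm) : Sub := LinearMap.ker (Mv y)

theorem mem_Wg {y : qAut qm} {w : V8} : w ∈ Wg y ↔ ∃ v, Mv y v = w := Iff.rfl

theorem mem_Kg {y : qAut qm} {v : V8} : v ∈ Kg y ↔ Mv y v = 0 := Iff.rfl

theorem finrank8 : Module.finrank (ZMod 2) V8 = 8 := by rw [Module.finrank_pi]; simp

theorem card_sub (U : Sub) : Nat.card U = 2 ^ Module.finrank (ZMod 2) U := by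
  rw [Module.natCard_eq_pow_finrank (K := ZMod 2), Nat.card_zmod]

theorem qRank_eq (y : qAut qm) : qRank qm y = Module.finrank (ZMod 2) (Wg y) := by
  have : (y.1.toLinearMap - LinearMap.id : V8 →ₗ[ZMod 2] V8) = Mv y := LinearMap.ext fun v => by
    simp only [LinearMap.sub_apply, LinearEquiv.coe_coe, LinearMap.id_apply, Mv_apply]
    exact funext fun i => CharTwo.sub_eq_add _ _
  rw [qRank, this]
  rfl

/-! ### Perpendiculars -/

/-- The perpendicular. -/
noncomputable def perp (U : Sub) : Sub := LinearMap.BilinForm.orthogonal (QuadraticMap.polarBilin qm) U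

theorem mem_perp {U : Sub} {v : V8} : v ∈ perp U ↔ ∀ u ∈ U, pb u v = 0 := by
  rw [perp, LinearMap.BilinForm.mem_orthogonal_iff]; rfl

theorem pb_perp {U : Sub} {u v : V8} (hu : u ∈ U) (hv : v ∈ perp U) : pb u v = 0 := mem_perp.1 hv u hu

theorem pb_perp' {U : Sub} {u v : V8} (hu : u ∈ U) (hv : v ∈ perp U) : pb v u = 0 := by
  rw [pb_comm]; exact pb_perp hu hv

theorem polar_refl : (QuadraticMap.polarBilin qm).IsRefl := fun x y h => by
  change pb x y = 0 at h
  change pb y x = 0
  rwa [pb_comm]

theorem polar_nd : LinearMap.BilinForm.Nondegenerate (QuadraticMap.polarBilin qm) :=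
  ⟨fun v hv => pb_nondeg hv, fun v hv => pb_nondeg fun w => by rw [pb_comm]; exact hv w⟩

theorem finrank_perp (U : Sub) : Module.finrank (ZMod 2) (perp U) + Module.finrank (ZMod 2) U = 8 := by
  have h := LinearMap.BilinForm.finrank_orthogonal polar_nd U
  have h2 := U.finrank_le
  rw [finrank8] at h h2
  unfold perp
  omega

theorem perp_perp (U : Sub) : perp (perp U) = U := by
  unfold perp
  exact LinearMap.BilinForm.orthogonal_orthogonal polar_nd polar_refl U

theorem perp_anti {U U' : Sub} (h : U ≤ U') : perp U' ≤ perp U := fun _ hv =>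
  mem_perp.2 fun _ hu => pb_perp (h hu) hv

theorem mem_of_perp {U : Sub} {v : V8} (h : ∀ w ∈ perp U, pb v w = 0) : v ∈ U := by
  rw [← perp_perp U, mem_perp]
  exact fun w hw => by rw [pb_comm]; exact h w hw

theorem exists_sep {U : Sub} {v : V8} (h : v ∉ U) : ∃ w ∈ perp U, pb v w = 1 := by
  by_contra hn
  push Not at hn
  exact h (mem_of_perp fun w hw => (two_cases _).resolve_right (hn w hw))

theorem exists_dual {k : ℕ} (n : Fin k → V8) (hn : LinearIndependent (ZMod 2) n) :
    ∃ v : Fin k → V8, ∀ i j, pb (n i) (v j) = if i = j then 1 else 0 := by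
  classical
  let L : V8 →ₗ[ZMod 2] (Fin k → ZMod 2) := LinearMap.pi fun i => QuadraticMap.polarBilin qm (n i)
  have hker : LinearMap.ker L = perp (Submodule.span (ZMod 2) (Set.range n)) := by
    ext v
    rw [LinearMap.mem_ker, mem_perp]
    constructor
    · intro h u hu
      induction hu using Submodule.span_induction with
      | mem x hx => obtain ⟨i, rfl⟩ := hx; exact congrFun h i
      | zero => exact pb_zero_left _
      | add x y _ _ h1 h2 => rw [pb_add_left, h1, h2, add_zero]
      | smul c x _ h1 => rw [pb_smul_left, h1, mul_zero]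
    · exact fun h => funext fun i => h _ (Submodule.subset_span ⟨i, rfl⟩)
  have hsur : Function.Surjective L := by
    rw [← LinearMap.range_eq_top]
    apply Submodule.eq_top_of_finrank_eq
    have h1 := L.finrank_range_add_finrank_ker
    have h2 := finrank_perp (Submodule.span (ZMod 2) (Set.range n))
    rw [finrank_span_eq_card hn, Fintype.card_fin] at h2
    rw [hker, finrank8] at h1
    rw [Module.finrank_pi, Fintype.card_fin]
    omega
  choose v hv using fun j => hsur fun i => if i = j then 1 else 0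
  exact ⟨v, fun i j => congrFun (hv j) i⟩

/-! ### Totally singular subspaces -/

/-- All values zero. -/
def TS (U : Sub) : Prop := ∀ u ∈ U, qm u = 0

/-- All products zero. -/
def Isot (U : Sub) : Prop := U ≤ perp U

theorem TS.isot {U : Sub} (h : TS U) : Isot U := fun u hu => mem_perp.2 fun w hw => by
  have := h _ (add_mem hw hu)
  rwa [qm_add, h w hw, h u hu, zero_add, zero_add] at this

theorem Isot.finrank {U : Sub} (h : Isot U) : Module.finrank (ZMod 2) U ≤ 4 := by
  have := Submodule.finrank_mono h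
  have := finrank_perp U
  omega

theorem exists_nonsing {U : Sub} (h : 5 ≤ Module.finrank (ZMod 2) U) : ∃ u ∈ U, qm u = 1 := by
  by_contra hn
  push Not at hn
  have := (TS.isot (U := U) fun u hu => (two_cases _).resolve_right (hn u hu)).finrank
  omega

/-- The singular vectors of an isotropic subspace. -/
def singPart (U : Sub) (h : Isot U) : Sub where
  carrier := {u | u ∈ U ∧ qm u = 0}
  zero_mem' := ⟨zero_mem U, map_zero _⟩
  add_mem' {a b} ha hb := ⟨add_mem ha.1 hb.1, by rw [qm_add, ha.2, hb.2, pb_perp ha.1 (h hb.1)]; simp⟩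
  smul_mem' c x hx := ⟨U.smul_mem c hx.1, by rw [quad_smul, hx.2, mul_zero]⟩

theorem TS.span {k : ℕ} {w : Fin k → V8} (hq : ∀ i, qm (w i) = 0) (hb : ∀ i j, pb (w i) (w j) = 0) :
    TS (Submodule.span (ZMod 2) (Set.range w)) := by
  intro u hu
  have hperp : ∀ a ∈ Submodule.span (ZMod 2) (Set.range w), ∀ i, pb a (w i) = 0 := by
    intro a ha i
    induction ha using Submodule.span_induction with
    | mem x hx => obtain ⟨j, rfl⟩ := hx; exact hb j i
    | zero => exact pb_zero_left _
    | add x y _ _ h1 h2 => rw [pb_add_left, h1, h2, add_zero]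
    | smul c x _ h1 => rw [pb_smul_left, h1, mul_zero]
  have hiso : ∀ b ∈ Submodule.span (ZMod 2) (Set.range w), ∀ a ∈ Submodule.span (ZMod 2) (Set.range w),
      pb a b = 0 := by
    intro b hb' a ha
    induction hb' using Submodule.span_induction with
    | mem x hx => obtain ⟨j, rfl⟩ := hx; exact hperp a ha j
    | zero => exact pb_zero_right _
    | add x y _ _ h1 h2 => rw [pb_add_right, h1, h2, add_zero]
    | smul c x _ h1 => rw [pb_smul_right, h1, mul_zero]
  induction hu using Submodule.span_induction with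
  | mem x hx => obtain ⟨j, rfl⟩ := hx; exact hq j
  | zero => exact QuadraticMap.map_zero _
  | add x y hx hy h1 h2 => rw [qm_add, h1, h2, hiso y hy x hx]; simp
  | smul c x _ h1 => rw [quad_smul, h1, mul_zero]

theorem exists_map {k : ℕ} (e w : Fin k → V8) (he : LinearIndependent (ZMod 2) e)
    (hw : LinearIndependent (ZMod 2) w) (heq : ∀ i, qm (e i) = 0) (hwq : ∀ i, qm (w i) = 0)
    (heb : ∀ i j, pb (e i) (e j) = 0) (hwb : ∀ i j, pb (w i) (w j) = 0) :
    ∃ φ : qAut qm, ∀ i, φ.1 (e i) = w i := by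
  let B := Module.Basis.span he
  let f : Submodule.span (ZMod 2) (Set.range e) →ₗ[ZMod 2] V8 := B.constr (ZMod 2) w
  have hf : ∀ i, f (B i) = w i := fun i => B.constr_basis (ZMod 2) w i
  have hinj : Function.Injective f := by
    rw [← LinearMap.ker_eq_bot]
    exact LinearMap.ker_eq_bot.2 (B.injective_constr_of_linearIndependent hw)
  obtain ⟨g, hg, hgf⟩ := Classical.witt_quad qm (fun v hv => pb_nondeg hv) _ f hinj (fun a => by
    rw [TS.span heq heb _ a.2]
    refine TS.span hwq hwb _ ?_
    have hr : LinearMap.range f = Submodule.span (ZMod 2) (Set.range w) := B.constr_range (ZMod 2)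
    rw [← hr]
    exact ⟨a, rfl⟩)
  refine ⟨⟨g, hg⟩, fun i => ?_⟩
  have := hgf (B i)
  rw [hf, Module.Basis.span_apply] at this
  exact this

/-! ### Involutions -/

section Invol

variable {g : qAut qm} (h2 : ∀ x, g.1 (g.1 x) = x)

include h2

theorem Wg_le_Kg : Wg g ≤ Kg g := by
  rintro _ ⟨v, rfl⟩
  rw [mem_Kg, Mv_eq_zero]
  exact dd_zero h2 v

theorem pb_Mv (x y : V8) : pb (Mv g x) y = pb x (Mv g y) := d_adj h2 x y

theorem Kg_eq : Kg g = perp (Wg g) := by
  ext v
  rw [mem_Kg, mem_perp]
  constructor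
  · rintro h _ ⟨x, rfl⟩
    rw [pb_Mv h2, h, pb_zero_right]
  · intro h
    refine pb_nondeg fun x => ?_
    rw [pb_comm, ← pb_Mv h2]
    exact h _ ⟨x, rfl⟩

theorem Wg_eq : Wg g = perp (Kg g) := by rw [Kg_eq h2, perp_perp]

theorem isot_Wg : Isot (Wg g) := by
  rw [Isot, ← Kg_eq h2]; exact Wg_le_Kg h2

omit h2 in
theorem qm_Mv (v : V8) : qm (Mv g v) = pb v (Mv g v) := d_quad v

theorem finrank_Kg : Module.finrank (ZMod 2) (Kg g) + qRank qm g = 8 := by
  rw [qRank_eq, Kg_eq h2]; exact finrank_perp _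

theorem Wg_eq_Kg (h4 : qRank qm g = 4) : Wg g = Kg g := by
  refine Submodule.eq_of_le_of_finrank_eq (Wg_le_Kg h2) ?_
  have := finrank_Kg h2
  rw [← qRank_eq]
  omega

end Invol

/-! ### A pair of singular vectors -/

/-- The map fixed by a singular pair. -/
noncomputable def tpLin (a b : V8) : V8 →ₗ[ZMod 2] V8 where
  toFun x := x + pb x a • b + pb x b • a
  map_add' x y := by rw [pb_add_left, pb_add_left]; module
  map_smul' c x := by rw [pb_smul_left, pb_smul_left, RingHom.id_apply]; module

theorem tp_sq {a b : V8} (hab : pb a b = 0) (x : V8) : tpLin a b (tpLin a b x) = x := by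
  show x + pb x a • b + pb x b • a + pb (x + pb x a • b + pb x b • a) a • b +
    pb (x + pb x a • b + pb x b • a) b • a = x
  simp only [pb_add_left, pb_smul_left, pb_self, hab, pb_comm b a, mul_zero, add_zero]
  calc x + pb x a • b + pb x b • a + pb x a • b + pb x b • a
      = x + (pb x a • b + pb x a • b) + (pb x b • a + pb x b • a) := by abel
    _ = x := by rw [add_self8, add_self8, add_zero, add_zero]

/-- The isometry of a singular pair. -/
noncomputable def tp (a b : V8) (h : qm a = 0 ∧ qm b = 0 ∧ pb a b = 0) : qAut qm :=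
  ⟨LinearEquiv.ofInvolutive (tpLin a b) (tp_sq h.2.2), fun x => by
    show qm (x + pb x a • b + pb x b • a) = qm x
    simp only [qm_add, pb_add_left, pb_smul_left, pb_smul_right, quad_smul, h.1, h.2.1, pb_comm b a, h.2.2]
    linear_combination CharTwo.add_self_eq_zero (pb x a * pb x b)⟩

theorem tp_apply (a b : V8) (h : qm a = 0 ∧ qm b = 0 ∧ pb a b = 0) (x : V8) :
    (tp a b h).1 x = x + pb x a • b + pb x b • a := rfl

theorem Mv_tp (a b : V8) (h : qm a = 0 ∧ qm b = 0 ∧ pb a b = 0) (x : V8) :
    Mv (tp a b h) x = pb x a • b + pb x b • a := by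
  rw [Mv_apply, tp_apply, add_assoc x, add_comm x, add_assoc, add_self8, add_zero]

theorem tp_mem_ev (a b : V8) (h : qm a = 0 ∧ qm b = 0 ∧ pb a b = 0) : tp a b h ∈ Ev := by
  by_cases ha : a = 0
  · have : tp a b h = 1 := eq_one_of_Mv fun v => by
      rw [Mv_tp, ha, pb_zero_right, zero_smul, smul_zero, add_zero]
    rw [this]; exact one_mem _
  refine inT_mem_ev ⟨ha, h.1⟩ ⟨?_, fun x hx => ?_⟩
  · rw [tp_apply, pb_self, h.2.2, zero_smul, zero_smul, add_zero, add_zero]
  · rw [← Mv_apply, Mv_tp, pb_comm x a, hx, zero_smul, zero_add]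
    rcases two_cases (pb x b) with e | e <;> rw [e]
    · exact .inl (zero_smul _ _)
    · exact .inr (one_smul _ _)

theorem tp_comm {g : qAut qm} {a b : V8} (h : qm a = 0 ∧ qm b = 0 ∧ pb a b = 0) (ga : g.1 a = a)
    (gb : g.1 b = b) : g * tp a b h = tp a b h * g := by
  refine qAut_ext fun x => ?_
  rw [qAut_mul_apply, qAut_mul_apply, tp_apply, tp_apply, map_add, map_add, map_smul, map_smul, ga, gb]
  have e1 : pb (g.1 x) a = pb x a := by conv_lhs => rw [← ga, pb_map]
  have e2 : pb (g.1 x) b = pb x b := by conv_lhs => rw [← gb, pb_map]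
  rw [e1, e2]

end CfsgLib.CoOneWeak
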