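import Mathlib
import Cfsg.Agent.Lib.CoType.Setup
import Cfsg.Agent.Lib.CoOneRec.Weak.LinAlg

/-!
Two commuting conjugate involutions, each weakly closed in its extraspecial subgroup.
-/

set_option autoImplicit false
set_option linter.style.haveILetI false
set_option linter.unusedSimpArgs false
set_option linter.unusedSectionVars false

namespace CfsgLib.CoOneWeak

open Subgroup CfsgLib.Classical CfsgLib.CoType

variable {G : Type*} [Group G] [Finite G]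

/-- The image of a subgroup in the space. -/
def img (π : G → V8) (H : Subgroup G) : Sub := Submodule.span (ZMod 2) (π '' (H : Set G))

/-- The elements of `Q` centralizing `u`. -/
abbrev bs (u : G) (Q : Subgroup G) : Subgroup G := Q ⊓ centralizer ({u} : Set G)

/-- The commutator with `u`. -/
def cm (u x : G) : G := x * u * x⁻¹ * u⁻¹

theorem mem_bs {u x : G} {Q : Subgroup G} : x ∈ bs u Q ↔ x ∈ Q ∧ x * u = u * x := by
  rw [bs, mem_inf, mem_centralizer_singleton_iff]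

theorem cm_conj (u x : G) : x * u * x⁻¹ = cm u x * u := by rw [cm, inv_mul_cancel_right]

theorem cm_eq_one {u x : G} : cm u x = 1 ↔ x * u = u * x := by
  rw [cm, mul_inv_eq_one, mul_inv_eq_iff_eq_mul]

theorem cm_mul (u x y : G) : cm u (x * y) = x * cm u y * x⁻¹ * cm u x := by
  simp only [cm]; group

theorem zb_sq {z : G} {c : ZMod 2} (hz : z ≠ 1) : zb z c = 1 ↔ c = 0 := by
  rcases two_cases c with rfl | rfl
  · simp [zb_zero]
  · simp [zb_one, hz]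

theorem exists_sub {U : Sub} {k : ℕ} (h : k ≤ Module.finrank (ZMod 2) U) :
    ∃ U' ≤ U, Module.finrank (ZMod 2) U' = k := by
  let B := Module.finBasis (ZMod 2) U
  refine ⟨Submodule.span (ZMod 2) (Set.range fun i : Fin k => (B (Fin.castLE h i) : V8)), ?_, ?_⟩
  · rw [Submodule.span_le]
    rintro _ ⟨i, rfl⟩
    exact (B _).2
  · rw [finrank_span_eq_card, Fintype.card_fin]
    exact (B.linearIndependent.map' U.subtype (Submodule.ker_subtype _)).comp _ (Fin.castLE_injective h)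

section Setup

variable {z : G} {Q : Subgroup G} {π : G → V8} {ρ : G → qAut qm} (S : Setup z Q π ρ)

include S

theorem mem_img {H : Subgroup G} (hH : H ≤ Q) {v : V8} : v ∈ img π H ↔ ∃ a ∈ H, π a = v := by
  refine ⟨fun h => ?_, fun ⟨a, ha, e⟩ => Submodule.subset_span ⟨a, ha, e⟩⟩
  induction h using Submodule.span_induction with
  | mem x hx => obtain ⟨a, ha, rfl⟩ := hx; exact ⟨a, ha, rfl⟩
  | zero => exact ⟨1, one_mem _, S.pi_one⟩
  | add x y _ _ h1 h2 =>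
    obtain ⟨a, ha, rfl⟩ := h1
    obtain ⟨b, hb, rfl⟩ := h2
    exact ⟨a * b, mul_mem ha hb, S.pi_mul a (hH ha) b (hH hb)⟩
  | smul c x _ h1 =>
    rcases two_cases c with rfl | rfl
    · exact ⟨1, one_mem _, by rw [S.pi_one, zero_smul]⟩
    · rwa [one_smul]

/-- The projection on a subgroup of `Q`. -/
def piHom {H : Subgroup G} (hH : H ≤ Q) : H →* Multiplicative V8 :=
  MonoidHom.mk' (fun a => Multiplicative.ofAdd (π (a : G)))
    fun a b => by rw [coe_mul, S.pi_mul _ (hH a.2) _ (hH b.2), ofAdd_add]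

theorem card_img {H : Subgroup G} (hH : H ≤ Q) :
    Nat.card H = Nat.card {a : H // (a : G) = 1 ∨ (a : G) = z} * Nat.card (img π H) := by
  have h := card_mul_index (piHom S hH).ker
  rw [index_ker] at h
  have h1 : Nat.card (piHom S hH).range = Nat.card (img π H) :=
    Nat.card_congr (Equiv.subtypeEquiv Multiplicative.toAdd fun v => by
      rw [MonoidHom.mem_range, mem_img S hH]
      exact ⟨fun ⟨a, ha⟩ => ⟨a, a.2, congrArg Multiplicative.toAdd ha⟩,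
        fun ⟨a, ha, e⟩ => ⟨⟨a, ha⟩, Multiplicative.toAdd.injective e⟩⟩)
  have h2 : Nat.card (piHom S hH).ker = Nat.card {a : H // (a : G) = 1 ∨ (a : G) = z} :=
    Nat.card_congr (Equiv.subtypeEquivRight fun a => by
      rw [MonoidHom.mem_ker, ← S.pi_ker _ (hH a.2)]
      exact ⟨fun e => congrArg Multiplicative.toAdd e, fun e => congrArg Multiplicative.ofAdd e⟩)
  rw [← h, h1, h2]

theorem card_img_z {H : Subgroup G} (hH : H ≤ Q) (hz : z ∈ H) : Nat.card H = 2 * Nat.card (img π H) := by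
  classical
  rw [card_img S hH]
  congr 1
  have : Nat.card {a : H // (a : G) = 1 ∨ (a : G) = z} = Nat.card ({1, z} : Finset G) :=
    Nat.card_congr ⟨fun a => ⟨a.1.1, by simpa using a.2⟩,
      fun a => ⟨⟨a.1, (Finset.mem_insert.1 a.2).elim (fun e => by rw [e]; exact one_mem H)
        fun e => by rw [Finset.mem_singleton.1 e]; exact hz⟩,
        (Finset.mem_insert.1 a.2).imp id Finset.mem_singleton.1⟩,
      fun _ => rfl, fun _ => rfl⟩
  rw [this, Nat.card_eq_finsetCard, Finset.card_pair S.z1.symm]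

theorem card_img_one {H : Subgroup G} (hH : H ≤ Q) (hz : z ∉ H) : Nat.card H = Nat.card (img π H) := by
  rw [card_img S hH]
  haveI : Subsingleton {a : H // (a : G) = 1 ∨ (a : G) = z} := ⟨fun a b => by
    have e : ∀ c : {a : H // (a : G) = 1 ∨ (a : G) = z}, c.1 = 1 := fun c =>
      Subtype.ext (c.2.resolve_right fun e => hz (e ▸ c.1.2))
    exact Subtype.ext ((e a).trans (e b).symm)⟩
  haveI : Nonempty {a : H // (a : G) = 1 ∨ (a : G) = z} := ⟨⟨1, .inl rfl⟩⟩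
  rw [Nat.card_unique, one_mul]

/-- The action as a homomorphism. -/
noncomputable def rhom : centralizer ({z} : Set G) →* qAut qm :=
  MonoidHom.mk' (fun c => ρ (c : G)) fun a b => S.rho_mul _ a.2 _ b.2

theorem pi_conj_comm {x a : G} (hx : x ∈ Q) (ha : a ∈ Q) (h : pb (π x) (π a) = 0) : x * a * x⁻¹ = a := by
  rw [(S.commute_iff hx ha).2 h, mul_inv_cancel_right]

theorem rho_pow {c : G} (hc : c ∈ centralizer ({z} : Set G)) : ∀ n : ℕ, ρ (c ^ n) = ρ c ^ n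
  | 0 => by rw [pow_zero, pow_zero, S.rho_one]
  | n + 1 => by rw [pow_succ, pow_succ, S.rho_mul _ (pow_mem hc n) _ hc, rho_pow hc n]

end Setup

/-- The configuration. -/
structure WPair (z u : G) (Q Q' : Subgroup G) (π π' : G → V8) (ρ ρ' : G → qAut qm) : Prop where
  S : Setup z Q π ρ
  S' : Setup u Q' π' ρ'
  conj : IsConj z u
  weak : ∀ v, IsConj z v → v ∈ Q → v = z
  weak' : ∀ v, IsConj z v → v ∈ Q' → v = u
  ne : u ≠ z
  comm : u * z = z * u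

namespace WPair

/-- Every conjugate commuting with `z` gives a configuration. -/
theorem of_conj {z : G} {Q : Subgroup G} {π : G → V8} {ρ : G → qAut qm} (S : Setup z Q π ρ)
    (weak : ∀ v, IsConj z v → v ∈ Q → v = z) {v : G} (hv : IsConj z v) (hne : v ≠ z) (hc : v * z = z * v) :
    ∃ Q' π' ρ', WPair z v Q Q' π π' ρ ρ' := by
  obtain ⟨h, rfl⟩ := isConj_iff.1 hv
  refine ⟨_, _, _, S, S.conj h, hv, weak, fun w hw hwQ => ?_, hne, hc⟩
  obtain ⟨q, hq, rfl⟩ := hwQ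
  have : IsConj z q := hw.trans (isConj_iff.2 ⟨h⁻¹, by simp [mul_assoc]⟩)
  rw [weak q this hq]
  rfl

variable {z u : G} {Q Q' : Subgroup G} {π π' : G → V8} {ρ ρ' : G → qAut qm}
  (P : WPair z u Q Q' π π' ρ ρ')

include P

theorem symm : WPair u z Q' Q π' π ρ' ρ :=
  ⟨P.S', P.S, P.conj.symm, fun v hv h => P.weak' v (P.conj.trans hv) h,
    fun v hv h => P.weak v (P.conj.trans hv) h, P.ne.symm, P.comm.symm⟩

theorem uC : u ∈ centralizer ({z} : Set G) := mem_centralizer_singleton_iff.2 P.comm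

theorem uQ : u ∉ Q := fun h => P.ne (P.weak u P.conj h)

theorem zQ' : z ∉ Q' := P.symm.uQ

theorem u_inv : u⁻¹ = u := inv_eq_of_mul_eq_one_right P.S'.z2

theorem g_invol (x : V8) : (ρ u).1 ((ρ u).1 x) = x := by
  rw [← qAut_mul_apply, ← P.S.rho_mul u P.uC u P.uC, P.S'.z2, P.S.rho_one]
  rfl

theorem g_ev : ρ u ∈ Ev := P.S.rho_mem P.uC

theorem g_ne : ρ u ≠ 1 := fun h => P.uQ ((P.S.rho_ker u P.uC).1 h)

theorem rank_cases : qRank qm (ρ u) = 2 ∨ qRank qm (ρ u) = 4 := CoType.rank_cases P.g_invol P.g_ev P.g_ne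

theorem comm_g {c : G} (hc : c ∈ centralizer ({z} : Set G)) (h : c * u = u * c) : ρ c * ρ u = ρ u * ρ c := by
  rw [← P.S.rho_mul c hc u P.uC, h, P.S.rho_mul u P.uC c hc]

theorem cm_mem {x : G} (hx : x ∈ Q) : cm u x ∈ Q := by
  rw [show cm u x = x * (u * x⁻¹ * u⁻¹) by rw [cm]; group]
  exact mul_mem hx (P.S.conj_mem P.uC (inv_mem hx))

theorem pi_cm {x : G} (hx : x ∈ Q) : π (cm u x) = Mv (ρ u) (π x) := by
  rw [show cm u x = x * (u * x⁻¹ * u⁻¹) by rw [cm]; group,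
    P.S.pi_mul x hx _ (P.S.conj_mem P.uC (inv_mem hx)), P.S.rho_pi u P.uC _ (inv_mem hx), P.S.pi_inv hx, Mv_apply,
    add_comm]

theorem cm_Kg {x : G} (hx : x ∈ Q) (h : π x ∈ Kg (ρ u)) : cm u x = 1 ∨ cm u x = z :=
  (P.S.pi_ker _ (P.cm_mem hx)).1 (by rw [P.pi_cm hx]; exact h)

theorem u_cm (x : G) : u * cm u x * u⁻¹ = (cm u x)⁻¹ := by
  simp only [cm, mul_inv_rev, inv_inv, P.u_inv]
  simp only [mul_assoc, P.S'.z2, mul_one]

theorem cm_bs_iff {x : G} (hx : x ∈ Q) : cm u x ∈ bs u Q ↔ qm (Mv (ρ u) (π x)) = 0 := by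
  rw [← P.pi_cm hx, ← zb_sq P.S.z1, ← P.S.sq _ (P.cm_mem hx), mul_eq_one_iff_eq_inv, mem_bs]
  refine ⟨fun h => ?_, fun h => ⟨P.cm_mem hx, ?_⟩⟩
  · rw [← P.u_cm, ← h.2, mul_inv_cancel_right]
  · conv_lhs => rw [h, ← P.u_cm]
    rw [inv_mul_cancel_right]

theorem z_bs : z ∈ bs u Q := mem_bs.2 ⟨P.S.zQ, P.comm.symm⟩

theorem bs_le : bs u Q ≤ Q := inf_le_left

theorem bbar_le : img π (bs u Q) ≤ Kg (ρ u) := by
  intro v hv
  obtain ⟨a, ha, rfl⟩ := (mem_img P.S P.bs_le).1 hv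
  rw [mem_Kg, ← P.pi_cm (mem_bs.1 ha).1, cm_eq_one.2 (mem_bs.1 ha).2, P.S.pi_one]

theorem pi_bs {b : G} (hb : b ∈ bs u Q) : π b ∈ img π (bs u Q) := (mem_img P.S P.bs_le).2 ⟨b, hb, rfl⟩

theorem card_bs : Nat.card (bs u Q) = 2 * Nat.card (img π (bs u Q)) := card_img_z P.S P.bs_le P.z_bs

theorem mem_bs_of_pi {x : G} (hx : x ∈ Q) (h : π x ∈ img π (bs u Q)) : x ∈ bs u Q := by
  obtain ⟨a, ha, e⟩ := (mem_img P.S P.bs_le).1 h
  rcases P.S.pi_eq ((mem_bs.1 ha).1) hx e with rfl | rfl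
  · exact ha
  · exact mul_mem P.z_bs ha

omit P in
/-- `z` is no commutator of `u` with `Q`. -/
def F0 (z u : G) (Q : Subgroup G) : Prop := ∀ x ∈ Q, cm u x ≠ z

theorem bbar_F0 (h : F0 z u Q) : img π (bs u Q) = Kg (ρ u) := by
  refine le_antisymm P.bbar_le fun v hv => ?_
  obtain ⟨x, hx, rfl⟩ := P.S.pi_surj v
  exact P.pi_bs (mem_bs.2 ⟨hx, cm_eq_one.1 ((P.cm_Kg hx hv).resolve_right (h x hx))⟩)

theorem ts_F0 (h : F0 z u Q) : TS (Wg (ρ u)) := by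
  rintro _ ⟨v, rfl⟩
  obtain ⟨x, hx, rfl⟩ := P.S.pi_surj v
  refine (P.cm_bs_iff hx).1 (P.mem_bs_of_pi (P.cm_mem hx) ?_)
  rw [P.bbar_F0 h, P.pi_cm hx]
  exact Wg_le_Kg P.g_invol ⟨_, rfl⟩

theorem finrank_bbar : Module.finrank (ZMod 2) (Kg (ρ u)) ≤ Module.finrank (ZMod 2) (img π (bs u Q)) + 1 := by
  by_cases h : F0 z u Q
  · rw [P.bbar_F0 h]; omega
  simp only [F0, not_forall, not_not] at h
  obtain ⟨x₀, hx₀, hx₀z⟩ := h
  have hle : Kg (ρ u) ≤ img π (bs u Q) ⊔ Submodule.span (ZMod 2) {π x₀} := by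
    intro v hv
    obtain ⟨x, hx, rfl⟩ := P.S.pi_surj v
    rcases P.cm_Kg hx hv with e | e
    · exact Submodule.mem_sup_left (P.pi_bs (mem_bs.2 ⟨hx, cm_eq_one.1 e⟩))
    · have h1 : x₀⁻¹ * x ∈ bs u Q := by
        refine mem_bs.2 ⟨mul_mem (inv_mem hx₀) hx, ?_⟩
        have a1 := cm_conj u x
        have a2 := cm_conj u x₀
        rw [e] at a1
        rw [hx₀z] at a2
        calc x₀⁻¹ * x * u = x₀⁻¹ * (x * u * x⁻¹) * x := by group
          _ = x₀⁻¹ * (x₀ * u * x₀⁻¹) * x := by rw [a1, a2]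
          _ = u * (x₀⁻¹ * x) := by group
      have h2 : π x = π x₀ + π (x₀⁻¹ * x) := by
        rw [P.S.pi_mul _ (inv_mem hx₀) _ hx, P.S.pi_inv hx₀, add_cancel8]
      rw [h2]
      exact add_mem (Submodule.mem_sup_right (Submodule.mem_span_singleton_self _))
        (Submodule.mem_sup_left (P.pi_bs h1))
  have := Submodule.finrank_mono hle
  have h1 := Submodule.finrank_sup_add_finrank_inf_eq (img π (bs u Q)) (Submodule.span (ZMod 2) {π x₀})
  have h2 : Module.finrank (ZMod 2) (Submodule.span (ZMod 2) {π x₀}) ≤ 1 := by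
    have := finrank_span_le_card (R := ZMod 2) ({π x₀} : Set V8)
    simpa using this
  omega

/-! ### The intersection -/

theorem d_bs {d : G} (hd : d ∈ Q) (hd' : d ∈ Q') : d ∈ bs u Q := mem_bs.2 ⟨hd, P.S'.z_comm hd'⟩

theorem d_sq {d : G} (hd : d ∈ Q) (hd' : d ∈ Q') : d * d = 1 := by
  have h1 := P.S.sq d hd
  have h2 := P.S'.sq d hd'
  rcases two_cases (qm (π d)) with e | e
  · rw [h1, e, zb_zero]
  · rcases two_cases (qm (π' d)) with e' | e'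
    · rw [h2, e', zb_zero]
    · rw [h1, e, zb_one, e', zb_one] at h2; exact absurd h2.symm P.ne

theorem d_qm {d : G} (hd : d ∈ Q) (hd' : d ∈ Q') : qm (π d) = 0 := by
  rw [← zb_sq P.S.z1, ← P.S.sq d hd]; exact P.d_sq hd hd'

theorem d_inj {a b : G} (ha : a ∈ Q) (ha' : a ∈ Q') (hb : b ∈ Q) (hb' : b ∈ Q') (h : π a = π b) : a = b := by
  rcases P.S.pi_eq ha hb h with e | e
  · exact e.symm
  · exfalso
    refine P.zQ' ?_
    rw [eq_mul_inv_of_mul_eq e.symm]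
    exact mul_mem hb' (inv_mem ha')

theorem d_one {d : G} (hd : d ∈ Q) (hd' : d ∈ Q') (h : π d = 0) : d = 1 :=
  P.d_inj hd hd' (one_mem _) (one_mem _) (h.trans P.S.pi_one.symm)

theorem d_comm {d b : G} (hd : d ∈ Q) (hd' : d ∈ Q') (hb : b ∈ bs u Q) : b * d = d * b := by
  obtain ⟨hbQ, hbu⟩ := mem_bs.1 hb
  rw [P.S.commute_iff hbQ hd]
  refine (two_cases _).resolve_right fun h => P.zQ' ?_
  have e := P.S.comm hbQ hd
  rw [h, zb_one] at e
  rw [eq_mul_inv_of_mul_eq e.symm]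
  rw [show b * d * (d * b)⁻¹ = b * d * b⁻¹ * d⁻¹ by group]
  exact mul_mem (P.S'.conj_mem (mem_centralizer_singleton_iff.2 hbu) hd') (inv_mem hd')

theorem dbar_le : img π (Q ⊓ Q') ≤ img π (bs u Q) :=
  Submodule.span_mono (Set.image_mono fun _ hx => P.d_bs (mem_inf.1 hx).1 (mem_inf.1 hx).2)

theorem mem_dbar {v : V8} : v ∈ img π (Q ⊓ Q') ↔ ∃ d, d ∈ Q ∧ d ∈ Q' ∧ π d = v := by
  rw [mem_img P.S inf_le_left]
  exact exists_congr fun d => by rw [mem_inf, and_assoc]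

theorem dbar_perp : img π (Q ⊓ Q') ≤ perp (img π (bs u Q)) := by
  intro v hv
  obtain ⟨d, hd, hd', rfl⟩ := P.mem_dbar.1 hv
  refine mem_perp.2 fun w hw => ?_
  obtain ⟨b, hb, rfl⟩ := (mem_img P.S P.bs_le).1 hw
  exact (P.S.commute_iff (mem_bs.1 hb).1 hd).1 (P.d_comm hd hd' hb)

theorem card_dbar : Nat.card ↥(Q ⊓ Q') = 2 ^ Module.finrank (ZMod 2) (img π (Q ⊓ Q')) := by
  rw [card_img_one P.S inf_le_left fun h => P.zQ' (mem_inf.1 h).2, card_sub]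

theorem finrank_dbar : Module.finrank (ZMod 2) (img π (Q ⊓ Q')) = Module.finrank (ZMod 2) (img π' (Q' ⊓ Q)) := by
  have h1 := P.card_dbar
  have h2 := P.symm.card_dbar
  rw [inf_comm Q' Q] at h2 ⊢
  exact Nat.pow_right_injective le_rfl (h1.symm.trans h2)

/-- A commutator with `u` in `Q'` is trivial. -/
theorem cm_weak {x : G} (hx' : cm u x ∈ Q') : cm u x = 1 := by
  have h := P.weak' (x * u * x⁻¹) (P.conj.trans (isConj_iff.2 ⟨x, rfl⟩))
    (by rw [cm_conj]; exact mul_mem hx' P.S'.zQ)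
  rw [cm_conj] at h
  exact mul_eq_right.1 h

theorem dbar_Wg (h : ¬ F0 z u Q) {d : G} (hd : d ∈ Q) (hd' : d ∈ Q') (hW : π d ∈ Wg (ρ u)) : d = 1 := by
  simp only [F0, not_forall, not_not] at h
  obtain ⟨y, hy, hyz⟩ := h
  obtain ⟨v, hv⟩ := hW
  obtain ⟨x, hx, rfl⟩ := P.S.pi_surj v
  have hyK : π y ∈ Kg (ρ u) := by rw [mem_Kg, ← P.pi_cm hy, hyz, P.S.pi_z]
  rw [Kg_eq P.g_invol] at hyK
  have hc : y * cm u x * y⁻¹ = cm u x := pi_conj_comm P.S hy (P.cm_mem hx)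
    (pb_perp' (P.pi_cm hx ▸ (⟨_, rfl⟩ : Mv (ρ u) (π x) ∈ Wg (ρ u))) hyK)
  rcases P.S.pi_eq (P.cm_mem hx) hd ((P.pi_cm hx).trans hv) with e | e
  · rw [e]; exact P.cm_weak (e ▸ hd')
  · have : cm u (y * x) = d := by rw [cm_mul, hc, hyz, P.S.z_comm (P.cm_mem hx), e]
    rw [← this]
    exact P.cm_weak (this ▸ hd')

/-- The commutators between the two centralizers. -/
theorem comm_bs {r b : G} (hr : r ∈ bs z Q') (hb : b ∈ bs u Q) :
    r * b * r⁻¹ * b⁻¹ ∈ Q ∧ r * b * r⁻¹ * b⁻¹ ∈ Q' := by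
  obtain ⟨hr', hrz⟩ := mem_bs.1 hr
  obtain ⟨hbQ, hbu⟩ := mem_bs.1 hb
  refine ⟨mul_mem (P.S.conj_mem (mem_centralizer_singleton_iff.2 hrz) hbQ) (inv_mem hbQ), ?_⟩
  rw [show r * b * r⁻¹ * b⁻¹ = r * (b * r⁻¹ * b⁻¹) by group]
  exact mul_mem hr' (P.S'.conj_mem (mem_centralizer_singleton_iff.2 hbu) (inv_mem hr'))

theorem rs_mem {r : G} (hr : r ∈ bs z Q') :
    r ∈ centralizer ({z} : Set G) ∧ r * u = u * r :=
  ⟨mem_centralizer_singleton_iff.2 (mem_bs.1 hr).2, P.S'.z_comm (mem_bs.1 hr).1⟩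

theorem mv_bs {r b : G} (hr : r ∈ bs z Q') (hb : b ∈ bs u Q) :
    Mv (ρ r) (π b) = π (r * b * r⁻¹ * b⁻¹) := by
  rw [P.S.pi_mul _ (P.S.conj_mem (P.rs_mem hr).1 (mem_bs.1 hb).1) _ (inv_mem (mem_bs.1 hb).1),
    P.S.rho_pi r (P.rs_mem hr).1 b (mem_bs.1 hb).1, P.S.pi_inv (mem_bs.1 hb).1, Mv_apply]

theorem mv_bbar {r : G} (hr : r ∈ bs z Q') {v : V8} (hv : v ∈ img π (bs u Q)) :
    Mv (ρ r) v ∈ img π (Q ⊓ Q') := by
  obtain ⟨b, hb, rfl⟩ := (mem_img P.S P.bs_le).1 hv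
  exact P.mem_dbar.2 ⟨_, (P.comm_bs hr hb).1, (P.comm_bs hr hb).2, (P.mv_bs hr hb).symm⟩

theorem mv_dbar {r : G} (hr : r ∈ bs z Q') {v : V8} (hv : v ∈ img π (Q ⊓ Q')) : Mv (ρ r) v = 0 := by
  obtain ⟨d, hd, hd', rfl⟩ := P.mem_dbar.1 hv
  have h := P.symm.d_comm hd' hd hr
  rw [P.mv_bs hr (P.d_bs hd hd'), h, mul_inv_cancel_right, mul_inv_cancel, P.S.pi_one]

theorem rho_rs {r : G} (hr : r ∈ bs z Q') : ρ r = 1 ↔ r ∈ Q := P.S.rho_ker r (P.rs_mem hr).1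

/-- The group induced by `C_{Q'}(z)`. -/
noncomputable def rImg : Subgroup (qAut qm) := ((bs z Q').subgroupOf (centralizer ({z} : Set G))).map (rhom P.S)

theorem mem_rImg {y : qAut qm} : y ∈ P.rImg ↔ ∃ r ∈ bs z Q', ρ r = y := by
  constructor
  · rintro ⟨r, hr, rfl⟩
    exact ⟨r.1, mem_subgroupOf.1 hr, rfl⟩
  · rintro ⟨r, hr, rfl⟩
    exact ⟨⟨r, (P.rs_mem hr).1⟩, mem_subgroupOf.2 hr, rfl⟩

theorem card_rImg (hD : ∀ d ∈ Q, d ∈ Q' → d = 1) : Nat.card P.rImg = Nat.card (bs z Q') := by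
  refine (Nat.card_congr (Equiv.ofBijective
    (fun r : bs z Q' => (⟨ρ (r : G), P.mem_rImg.2 ⟨_, r.2, rfl⟩⟩ : P.rImg)) ⟨?_, ?_⟩)).symm
  · intro r r' h
    have h' : ρ (r : G) = ρ (r' : G) := congrArg Subtype.val h
    have hm : ((r : G)⁻¹ * r') ∈ bs z Q' := mul_mem (inv_mem r.2) r'.2
    have := hD _ ((P.rho_rs hm).1 (by
      rw [P.S.rho_mul _ (inv_mem (P.rs_mem r.2).1) _ (P.rs_mem r'.2).1, P.S.rho_inv (P.rs_mem r.2).1, h',
        inv_mul_cancel])) (mem_bs.1 hm).1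
    exact Subtype.ext (inv_mul_eq_one.1 this)
  · rintro ⟨y, hy⟩
    obtain ⟨r, hr, rfl⟩ := P.mem_rImg.1 hy
    exact ⟨⟨r, hr⟩, rfl⟩

theorem rImg_ev : P.rImg ≤ Ev := fun y hy => by
  obtain ⟨r, hr, rfl⟩ := P.mem_rImg.1 hy
  exact P.S.rho_mem (P.rs_mem hr).1

theorem rImg_fix (hD : ∀ d ∈ Q, d ∈ Q' → d = 1) {y : qAut qm} (hy : y ∈ P.rImg) {v : V8}
    (hv : v ∈ img π (bs u Q)) : y.1 v = v := by
  obtain ⟨r, hr, rfl⟩ := P.mem_rImg.1 hy
  obtain ⟨d, hd, hd', e⟩ := P.mem_dbar.1 (P.mv_bbar hr hv)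
  rw [hD d hd hd', P.S.pi_one] at e
  exact Mv_eq_zero.1 e.symm

end WPair

end CfsgLib.CoOneWeak
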