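import Mathlib
import Cfsg.Agent.Lib.CoOneRec.Weak.LinAlg

/-!
At most fifteen elements of the index two subgroup fix a subspace of dimension five pointwise.
-/

set_option autoImplicit false
set_option linter.style.haveILetI false
set_option linter.unusedSimpArgs false

namespace CfsgLib.CoOneWeak

open CfsgLib.Classical CfsgLib.CoType

/-- Three coordinates. -/
abbrev R3 := ZMod 2 × ZMod 2 × ZMod 2

/-- A form on three coordinates, from its six coefficients. -/
def qf (k : R3 × R3) (a : R3) : ZMod 2 :=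
  a.1 * k.1.1 + a.2.1 * k.1.2.1 + a.2.2 * k.1.2.2 +
    a.1 * a.2.1 * k.2.1 + a.1 * a.2.2 * k.2.2.1 + a.2.1 * a.2.2 * k.2.2.2

/-- Its polar form. -/
def bf (k : R3 × R3) (a c : R3) : ZMod 2 :=
  (a.1 * c.2.1 + a.2.1 * c.1) * k.2.1 + (a.1 * c.2.2 + a.2.2 * c.1) * k.2.2.1 +
    (a.2.1 * c.2.2 + a.2.2 * c.2.1) * k.2.2.2

/-- The conditions on the matrix of a map fixing the subspace. -/
def capOK (k : R3 × R3) (s : R3 × R3 × R3) : Prop :=
  s.1.1 + qf k s.1 = 0 ∧ s.2.1.2.1 + qf k s.2.1 = 0 ∧ s.2.2.2.2 + qf k s.2.2 = 0 ∧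
    s.1.2.1 + s.2.1.1 + bf k s.1 s.2.1 = 0 ∧ s.1.2.2 + s.2.2.1 + bf k s.1 s.2.2 = 0 ∧
    s.2.1.2.2 + s.2.2.2.1 + bf k s.2.1 s.2.2 = 0

instance (k : R3 × R3) (s : R3 × R3 × R3) : Decidable (capOK k s) := by unfold capOK; infer_instance

set_option maxRecDepth 100000 in
theorem cap_count : ∀ k : R3 × R3, (Finset.univ.filter (capOK k)).card ≤ if k = 0 then 8 else 31 := by
  decide +kernel

/-- The bound. -/
theorem cap {U : Sub} (hU : Module.finrank (ZMod 2) U = 5) (P : Subgroup (qAut qm)) (hev : P ≤ Ev)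
    (hfix : ∀ y ∈ P, ∀ u ∈ U, y.1 u = u) : Nat.card P ≤ 15 := by
  classical
  haveI := finite_qAut qm
  have h3 : Module.finrank (ZMod 2) (perp U) = 3 := by have := finrank_perp U; omega
  let B := Module.finBasisOfFinrankEq (ZMod 2) (perp U) h3
  set n : Fin 3 → V8 := fun i => (B i : V8) with hn
  have hli : LinearIndependent (ZMod 2) n :=
    B.linearIndependent.map' (perp U).subtype (Submodule.ker_subtype _)
  obtain ⟨v, hv⟩ := exists_dual n hli
  have hexp : ∀ x ∈ perp U, x = pb x (v 0) • n 0 + pb x (v 1) • n 1 + pb x (v 2) • n 2 := by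
    intro x hx
    have h := congrArg Subtype.val (B.sum_repr ⟨x, hx⟩)
    simp only [Fin.sum_univ_three, Submodule.coe_add, Submodule.coe_smul] at h
    set c := fun i => B.repr ⟨x, hx⟩ i
    have hc : ∀ j, pb x (v j) = c j := fun j => by
      conv_lhs => rw [← h]
      simp only [pb_add_left, pb_smul_left]
      change c 0 * pb (n 0) (v j) + c 1 * pb (n 1) (v j) + c 2 * pb (n 2) (v j) = _
      rw [hv, hv, hv]
      fin_cases j <;> simp
    rw [hc, hc, hc]
    exact h.symm
  have hdec : ∀ x, x + (pb (n 0) x • v 0 + pb (n 1) x • v 1 + pb (n 2) x • v 2) ∈ U := by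
    intro x
    refine mem_of_perp fun w hw => ?_
    have hk : ∀ j, pb (x + (pb (n 0) x • v 0 + pb (n 1) x • v 1 + pb (n 2) x • v 2)) (n j) = 0 := fun j => by
      rw [pb_comm, pb_add_right, pb_add_right, pb_add_right, pb_smul_right, pb_smul_right, pb_smul_right,
        hv, hv, hv]
      fin_cases j <;> simp [CharTwo.add_self_eq_zero]
    rw [hexp w hw, pb_add_right, pb_add_right, pb_smul_right, pb_smul_right, pb_smul_right, hk, hk, hk]
    simp
  set k : R3 × R3 := ((qm (n 0), qm (n 1), qm (n 2)), (pb (n 0) (n 1), pb (n 0) (n 2), pb (n 1) (n 2))) with hk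
  let co : V8 → R3 := fun x => (pb x (v 0), pb x (v 1), pb x (v 2))
  have hq : ∀ x ∈ perp U, qm x = qf k (co x) := fun x hx => by
    conv_lhs => rw [hexp x hx]
    simp only [qm_add, quad_smul, pb_add_left, pb_smul_left, pb_smul_right, qf, hk, co,
      (by decide : ∀ a : ZMod 2, a * a = a)]
    ring
  have hb : ∀ x ∈ perp U, ∀ y ∈ perp U, pb x y = bf k (co x) (co y) := fun x hx y hy => by
    conv_lhs => rw [hexp x hx, hexp y hy]
    simp only [pb_add_left, pb_add_right, pb_smul_left, pb_smul_right, pb_self, bf, hk, co,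
      pb_comm (n 1) (n 0), pb_comm (n 2) (n 0), pb_comm (n 2) (n 1)]
    ring
  let X := {y : qAut qm // ∀ u ∈ U, y.1 u = u}
  have hM : ∀ y : X, ∀ x, Mv y.1 x ∈ perp U := fun y x => mem_perp.2 fun u hu => by
    have := pb_map y.1 u x
    rw [y.2 u hu] at this
    rw [Mv_apply, pb_add_right, this, CharTwo.add_self_eq_zero]
  let f : X → {s // capOK k s} := fun y => ⟨(co (Mv y.1 (v 0)), co (Mv y.1 (v 1)), co (Mv y.1 (v 2))), by
    have d : ∀ i, qm (Mv y.1 (v i)) + pb (Mv y.1 (v i)) (v i) = 0 := fun i => by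
      rw [qm_Mv, pb_comm, CharTwo.add_self_eq_zero]
    have o : ∀ i j, pb (Mv y.1 (v i)) (v j) + pb (Mv y.1 (v j)) (v i) +
        pb (Mv y.1 (v i)) (Mv y.1 (v j)) = 0 := fun i j => by
      have h := pb_map y.1 (v i) (v j)
      rw [pb_comm (Mv y.1 (v j)) (v i)]
      simp only [Mv_apply, pb_add_left, pb_add_right]
      rw [h]
      linear_combination CharTwo.add_self_eq_zero (pb (y.1.1 (v i)) (v j)) +
        CharTwo.add_self_eq_zero (pb (v i) (y.1.1 (v j))) + CharTwo.add_self_eq_zero (pb (v i) (v j)) +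
        CharTwo.add_self_eq_zero (pb (v i) (v j))
    refine ⟨?_, ?_, ?_, ?_, ?_, ?_⟩
    · have := d 0; rw [hq _ (hM y _), add_comm] at this; exact this
    · have := d 1; rw [hq _ (hM y _), add_comm] at this; exact this
    · have := d 2; rw [hq _ (hM y _), add_comm] at this; exact this
    · have := o 0 1; rw [hb _ (hM y _) _ (hM y _)] at this; exact this
    · have := o 0 2; rw [hb _ (hM y _) _ (hM y _)] at this; exact this
    · have := o 1 2; rw [hb _ (hM y _) _ (hM y _)] at this; exact this⟩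
  have hf : Function.Injective f := by
    intro y y' h
    have h' := congrArg Subtype.val h
    simp only [f, Prod.mk.injEq] at h'
    have e : ∀ i, Mv y.1 (v i) = Mv y'.1 (v i) := fun i => by
      have hi : co (Mv y.1 (v i)) = co (Mv y'.1 (v i)) := by
        fin_cases i
        · exact h'.1
        · exact h'.2.1
        · exact h'.2.2
      simp only [co, Prod.mk.injEq] at hi
      rw [hexp _ (hM y _), hexp _ (hM y' _), hi.1, hi.2.1, hi.2.2]
    refine Subtype.ext (qAut_ext fun x => ?_)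
    have e1 := y.2 _ (hdec x)
    have e2 := y'.2 _ (hdec x)
    have e' : ∀ i, y.1.1 (v i) = y'.1.1 (v i) := fun i => add_right_cancel (e i)
    simp only [map_add, map_smul, e'] at e1 e2
    exact add_right_cancel (e1.trans e2.symm)
  have hX : Nat.card X ≤ if k = 0 then 8 else 31 := by
    refine (Nat.card_le_card_of_injective f hf).trans ?_
    rw [Nat.card_eq_fintype_card, Fintype.card_subtype]
    exact cap_count k
  have hP : Nat.card P ≤ Nat.card X :=
    Nat.card_le_card_of_injective (fun y : P => (⟨y.1, hfix _ y.2⟩ : X))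
      fun _ _ h => Subtype.ext (congrArg (fun x : X => x.1) h)
  by_cases h0 : k = 0
  · rw [if_pos h0] at hX; omega
  obtain ⟨a, ha, ha1⟩ : ∃ a ∈ perp U, qm a = 1 := by
    by_contra hn
    push Not at hn
    have hz : TS (perp U) := fun u hu => (two_cases _).resolve_right (hn u hu)
    have hmem : ∀ i, n i ∈ perp U := fun i => (B i).2
    refine h0 ?_
    rw [hk]
    simp [hz _ (hmem 0), hz _ (hmem 1), hz _ (hmem 2), pb_perp (hmem 0) (hz.isot (hmem 1)),
      pb_perp (hmem 0) (hz.isot (hmem 2)), pb_perp (hmem 1) (hz.isot (hmem 2))]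
  have hr : ∀ u ∈ U, (rf a ha1).1 u = u := fun u hu => rf_fix ha1 (pb_perp hu ha)
  have hinj : Function.Injective (fun p : P × Bool =>
      (⟨p.1.1 * if p.2 then rf a ha1 else 1, fun u hu => by
        rw [qAut_mul_apply]
        cases p.2
        · exact hfix _ p.1.2 u hu
        · simp only [if_true, hr u hu]; exact hfix _ p.1.2 u hu⟩ : X)) := by
    rintro ⟨p, b⟩ ⟨p', b'⟩ h
    have h' := congrArg Subtype.val h
    cases b <;> cases b' <;> simp only [Bool.false_eq_true, if_false, if_true, mul_one, mul_left_inj] at h'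
    · rw [Subtype.ext h']
    · refine absurd ?_ (rf_not_mem ha1)
      have : rf a ha1 = p'.1⁻¹ * p.1 := by rw [h', inv_mul_cancel_left]
      rw [this]; exact hev (mul_mem (inv_mem p'.2) p.2)
    · refine absurd ?_ (rf_not_mem ha1)
      have : rf a ha1 = p.1⁻¹ * p'.1 := by rw [← h', inv_mul_cancel_left]
      rw [this]; exact hev (mul_mem (inv_mem p.2) p'.2)
    · rw [Subtype.ext h']
  have h2 := Nat.card_le_card_of_injective _ hinj
  rw [Nat.card_prod, Nat.card_eq_fintype_card (α := Bool), Fintype.card_bool] at h2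
  rw [if_neg h0] at hX
  change _ ≤ Nat.card X at h2
  omega

end CfsgLib.CoOneWeak
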