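import Mathlib
import Cfsg.Agent.Lib.CoOneRec.Weak.LinAlg

/-!
The maps fixing a totally singular subspace of dimension four pointwise: standard coordinates,
the twenty-eight of rank four form one orbit, and an element of order five centralizing one of them.
-/

set_option autoImplicit false
set_option linter.style.haveILetI false
set_option linter.unusedSimpArgs false

namespace CfsgLib.CoOneWeak

open CfsgLib.Classical CfsgLib.CoType

/-- Is it a pair of singular orthogonal patterns. -/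
def okP (p : ℕ × ℕ) : Bool :=
  decide (p.1 < 256) && decide (p.2 < 256) && !qn p.1 && !qn p.2 && !bn p.1 p.2

/-- A pair map on bit patterns. -/
def tB (p : ℕ × ℕ) (x : ℕ) : ℕ := x ^^^ (if bn x p.1 then p.2 else 0) ^^^ (if bn x p.2 then p.1 else 0)

/-- A word on bit patterns. -/
def wB : List (ℕ × ℕ) → ℕ → ℕ
  | [], x => x
  | p :: L, x => tB p (wB L x)

theorem okP_spec {p : ℕ × ℕ} (h : okP p = true) : p.1 < 256 ∧ p.2 < 256 ∧
    qm (vec p.1) = 0 ∧ qm (vec p.2) = 0 ∧ pb (vec p.1) (vec p.2) = 0 := by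
  simp only [okP, Bool.and_eq_true, decide_eq_true_eq, Bool.not_eq_true'] at h
  obtain ⟨⟨⟨⟨h1, h2⟩, h3⟩, h4⟩, h5⟩ := h
  exact ⟨h1, h2, by rw [qm_vec h1, h3]; rfl, by rw [qm_vec h2, h4]; rfl, by rw [pb_vec h1 h2, h5]; rfl⟩

/-- A pair map. -/
noncomputable def tpv (p : ℕ × ℕ) : qAut qm :=
  if h : okP p = true then tp (vec p.1) (vec p.2) (okP_spec h).2.2 else 1

/-- A word. -/
noncomputable def wA : List (ℕ × ℕ) → qAut qm
  | [] => 1
  | p :: L => tpv p * wA L

theorem tpv_mem (p : ℕ × ℕ) : tpv p ∈ Ev := by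
  rw [tpv]; split
  · exact tp_mem_ev _ _ _
  · exact one_mem _

theorem wA_mem : ∀ L, wA L ∈ Ev
  | [] => one_mem _
  | p :: L => mul_mem (tpv_mem p) (wA_mem L)

theorem wA_vec : ∀ {L : List (ℕ × ℕ)}, L.all okP = true → ∀ {x : ℕ}, x < 256 →
    wB L x < 256 ∧ (wA L).1 (vec x) = vec (wB L x)
  | [], _, x, hx => ⟨hx, rfl⟩
  | p :: L, h, x, hx => by
    simp only [List.all_cons, Bool.and_eq_true] at h
    obtain ⟨hy, e⟩ := wA_vec h.2 hx
    obtain ⟨h1, h2, -⟩ := okP_spec h.1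
    refine ⟨xor_lt (xor_lt hy ?_) ?_, ?_⟩
    · split <;> omega
    · split <;> omega
    · rw [wA, qAut_mul_apply, e, tpv, dif_pos h.1, tp_apply, wB, tB, vec_xor, vec_xor, pb_vec hy h1, pb_vec hy h2]
      cases bn (wB L x) p.1 <;> cases bn (wB L x) p.2 <;> simp [vec_zero]

theorem vec_pow_single : ∀ k : Fin 4 ⊕ Fin 4, ∀ l : Fin 4 ⊕ Fin 4,
    vec (match k with | .inl j => 2 ^ j.val | .inr j => 2 ^ (4 + j.val)) l = if l = k then 1 else 0 := by
  decide +kernel

/-- Maps are determined on the eight unit patterns. -/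
theorem ext_vec {y y' : qAut qm} (h : ∀ k < 8, y.1 (vec (2 ^ k)) = y'.1 (vec (2 ^ k))) : y = y' := by
  refine Subtype.ext (LinearEquiv.toLinearMap_injective ((Pi.basisFun (ZMod 2) (Fin 4 ⊕ Fin 4)).ext fun k => ?_))
  have e : (Pi.basisFun (ZMod 2) (Fin 4 ⊕ Fin 4)) k =
      vec (match k with | .inl j => 2 ^ j.val | .inr j => 2 ^ (4 + j.val)) := by
    rw [Pi.basisFun_apply]
    funext l
    rw [vec_pow_single, Pi.single_apply]
  rw [e]
  cases k with
  | inl j => exact h _ (by omega)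
  | inr j => exact h _ (by omega)

/-- The six pairs in the subspace. -/
def pairs : List (ℕ × ℕ) := [(1, 2), (1, 4), (1, 8), (2, 4), (2, 8), (4, 8)]

/-- The word of an alternating matrix. -/
def gW (m : ℕ) : List (ℕ × ℕ) := (pairs.zipIdx.filter fun p => m.testBit p.2).map Prod.fst

/-- The Pfaffian. -/
def pf (m : ℕ) : Bool :=
  xor (xor (m.testBit 0 && m.testBit 5) (m.testBit 1 && m.testBit 4)) (m.testBit 2 && m.testBit 3)

/-- The conjugating words. -/
def tab : List (ℕ × List (ℕ × ℕ)) :=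
  [(12, [(4, 16), (2, 128), (1, 64)]), (13, [(4, 16), (1, 64)]), (14, [(4, 16), (2, 128), (1, 128), (1, 64)]),
   (15, [(4, 16), (1, 128), (1, 64)]), (18, [(4, 32), (2, 64), (1, 128)]), (19, [(8, 16), (1, 128)]),
   (22, [(4, 16), (2, 64), (1, 128), (1, 64)]), (23, [(8, 16), (1, 128), (1, 64)]),
   (26, [(4, 32), (2, 64), (2, 16), (1, 128)]), (27, [(8, 16), (2, 16), (1, 128)]),
   (28, [(4, 16), (2, 128), (2, 16), (1, 64)]), (29, [(4, 16), (2, 16), (1, 64)]), (33, []), (35, [(1, 128)]),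
   (37, [(1, 64)]), (39, [(1, 128), (1, 64)]), (41, [(2, 128)]), (43, [(2, 16), (1, 128)]),
   (44, [(2, 128), (1, 64)]), (46, [(2, 128), (1, 128), (1, 64)]), (49, [(2, 64)]), (50, [(2, 64), (1, 128)]),
   (53, [(2, 16), (1, 64)]), (54, [(2, 64), (1, 128), (1, 64)]), (57, [(2, 128), (2, 64)]),
   (58, [(2, 64), (2, 16), (1, 128)]), (60, [(2, 128), (2, 16), (1, 64)]), (63, [(2, 16), (1, 128), (1, 64)])]

/-- The conjugating word. -/
def cW (m : ℕ) : List (ℕ × ℕ) := (tab.lookup m).getD []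

/-- The word of order five. -/
def kW : List (ℕ × ℕ) := [(4, 128), (2, 16), (8, 32), (1, 64), (1, 32)]

theorem check_ok : (List.range 64).all (fun m => (gW m).all okP && (cW m).all okP) && kW.all okP = true := by
  decide +kernel

theorem gW_ok {m : ℕ} (hm : m < 64) : (gW m).all okP = true := by
  have h := check_ok
  simp only [Bool.and_eq_true, List.all_eq_true (l := List.range 64), List.mem_range] at h
  exact (h.1 m hm).1

theorem cW_ok {m : ℕ} (hm : m < 64) : (cW m).all okP = true := by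
  have h := check_ok
  simp only [Bool.and_eq_true, List.all_eq_true (l := List.range 64), List.mem_range] at h
  exact (h.1 m hm).2

theorem kW_ok : kW.all okP = true := by
  have h := check_ok
  simp only [Bool.and_eq_true] at h
  exact h.2

theorem check_orbit : ∀ m < 64, pf m = true → ∀ k < 8,
    wB (gW m) (wB (cW m) (2 ^ k)) = wB (cW m) (wB (gW 33) (2 ^ k)) := by decide +kernel

theorem check_five : ∀ k < 8, wB kW (wB kW (wB kW (wB kW (wB kW (2 ^ k))))) = 2 ^ k ∧
    wB (gW 33) (wB kW (2 ^ k)) = wB kW (wB (gW 33) (2 ^ k)) := by decide +kernel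

theorem check_kW_fix : ∀ x < 16, x ≠ 0 → wB kW x ≠ x := by decide +kernel

theorem check_kW_W : ∀ x < 16, wB kW x < 16 := by decide +kernel

theorem check_cW_W : ∀ m < 64, ∀ x < 16, wB (cW m) x < 16 := by decide +kernel

theorem check_gW_W : ∀ m < 64, ∀ x < 16, wB (gW m) x = x := by decide +kernel

/-- The entries of the matrix of a word. -/
def entry (m : ℕ) : ℕ → ℕ → Bool
  | 0, 1 | 1, 0 => m.testBit 0
  | 0, 2 | 2, 0 => m.testBit 1
  | 0, 3 | 3, 0 => m.testBit 2
  | 1, 2 | 2, 1 => m.testBit 3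
  | 1, 3 | 3, 1 => m.testBit 4
  | 2, 3 | 3, 2 => m.testBit 5
  | _, _ => false

theorem check_entry : ∀ m < 64, ∀ i < 4, ∀ j < 4,
    bn (wB (gW m) (2 ^ (4 + i)) ^^^ 2 ^ (4 + i)) (2 ^ (4 + j)) =
      entry m i j := by decide +kernel

theorem check_image : ∀ m < 64, ∀ i < 4, wB (gW m) (2 ^ (4 + i)) ^^^ 2 ^ (4 + i) < 16 := by decide +kernel

theorem check_degenerate : ∀ m < 64, pf m = false → ∃ x < 16, x ≠ 0 ∧ wB (gW m) (16 * x) = 16 * x := by
  decide +kernel

theorem check_code : ∀ b : Fin 6 → Bool, ∃ m < 64, ∀ i : Fin 6, m.testBit i.val = b i := by decide +kernel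

theorem check_lt16 : ∀ x < 256, (x < 16 ↔ bn 1 x = false ∧ bn 2 x = false ∧ bn 4 x = false ∧ bn 8 x = false) := by
  decide +kernel

/-- The standard subspace. -/
noncomputable def W0 : Sub := Submodule.span (ZMod 2) (Set.range fun i : Fin 4 => vec (2 ^ i.val))

theorem li_std : LinearIndependent (ZMod 2) fun i : Fin 4 => vec (2 ^ i.val) := by
  have : (fun i : Fin 4 => vec (2 ^ i.val)) = fun i : Fin 4 => (Pi.basisFun (ZMod 2) (Fin 4 ⊕ Fin 4)) (.inl i) := by
    funext i l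
    rw [Pi.basisFun_apply, Pi.single_apply, ← vec_pow_single (.inl i) l]
  rw [this]
  exact (Pi.basisFun (ZMod 2) (Fin 4 ⊕ Fin 4)).linearIndependent.comp _ Sum.inl_injective

theorem qm_std (i : Fin 4) : qm (vec (2 ^ i.val)) = 0 := by
  rw [qm_vec (by fin_cases i <;> norm_num), ite_zero_iff]; revert i; decide +kernel

theorem pb_std (i j : Fin 4) : pb (vec (2 ^ i.val)) (vec (2 ^ j.val)) = 0 := by
  rw [pb_vec (by fin_cases i <;> norm_num) (by fin_cases j <;> norm_num), ite_zero_iff]; revert i j; decide +kernel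

theorem ts_W0 : TS W0 := TS.span qm_std pb_std

theorem finrank_W0 : Module.finrank (ZMod 2) W0 = 4 := by
  rw [W0, finrank_span_eq_card li_std, Fintype.card_fin]

theorem perp_W0 : perp W0 = W0 := by
  refine (Submodule.eq_of_le_of_finrank_eq ts_W0.isot ?_).symm
  have := finrank_perp W0
  rw [finrank_W0] at this ⊢
  omega

theorem mem_W0 {x : ℕ} (hx : x < 256) : vec x ∈ W0 ↔ x < 16 := by
  have hp : ∀ i : Fin 4, pb (vec (2 ^ i.val)) (vec x) = 0 ↔ bn (2 ^ i.val) x = false := fun i => by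
    rw [pb_vec (by fin_cases i <;> norm_num) hx, ite_zero_iff]
  conv_lhs => rw [← perp_W0, mem_perp]
  rw [check_lt16 x hx]
  constructor
  · intro h
    exact ⟨(hp 0).1 (h _ (Submodule.subset_span ⟨0, rfl⟩)), (hp 1).1 (h _ (Submodule.subset_span ⟨1, rfl⟩)),
      (hp 2).1 (h _ (Submodule.subset_span ⟨2, rfl⟩)), (hp 3).1 (h _ (Submodule.subset_span ⟨3, rfl⟩))⟩
  · rintro ⟨a, b, c, d⟩ u hu
    induction hu using Submodule.span_induction with
    | mem w hw =>
      obtain ⟨i, rfl⟩ := hw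
      fin_cases i
      exacts [(hp 0).2 a, (hp 1).2 b, (hp 2).2 c, (hp 3).2 d]
    | zero => exact pb_zero_left _
    | add u w _ _ h1 h2 => rw [pb_add_left, h1, h2, add_zero]
    | smul r u _ h1 => rw [pb_smul_left, h1, mul_zero]

/-- The maps fixing a subspace pointwise. -/
def Fix (W : Sub) (y : qAut qm) : Prop := ∀ w ∈ W, y.1 w = w

theorem Fix.range_le {W : Sub} {y : qAut qm} (h : Fix W y) : Wg y ≤ perp W := by
  rintro _ ⟨v, rfl⟩
  refine mem_perp.2 fun w hw => ?_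
  have := pb_map y w v
  rw [h w hw] at this
  rw [Mv_apply, pb_add_right, this, CharTwo.add_self_eq_zero]

theorem Fix.invol {W : Sub} (hW : perp W = W) {y : qAut qm} (h : Fix W y) (x : V8) : y.1 (y.1 x) = x := by
  have h1 : Mv y x ∈ W := hW ▸ h.range_le ⟨x, rfl⟩
  have := h _ h1
  rw [Mv_apply, map_add, add_comm (y.1 x) x] at this
  exact add_right_cancel this

theorem Fix.comm {W : Sub} (hW : perp W = W) {a b : qAut qm} (ha : Fix W a) (hb : Fix W b) :
    a * b = b * a := by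
  refine qAut_ext fun v => add_right_cancel (b := v) ?_
  show Mv (a * b) v = Mv (b * a) v
  rw [Mv_mul', Mv_mul', ha _ (hW ▸ hb.range_le ⟨v, rfl⟩), hb _ (hW ▸ ha.range_le ⟨v, rfl⟩), add_comm]

theorem fix_gW {m : ℕ} (hm : m < 64) : Fix W0 (wA (gW m)) := by
  intro w hw
  obtain ⟨x, hx, rfl⟩ := vec_surj w
  rw [(wA_vec (gW_ok hm) hx).2, check_gW_W m hm x ((mem_W0 hx).1 hw)]

theorem entry_gW {m i j : ℕ} (hm : m < 64) (hi : i < 4) (hj : j < 4) :
    Mv (wA (gW m)) (vec (2 ^ (4 + i))) = vec (wB (gW m) (2 ^ (4 + i)) ^^^ 2 ^ (4 + i)) ∧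
      pb (Mv (wA (gW m)) (vec (2 ^ (4 + i)))) (vec (2 ^ (4 + j))) =
        if bn (wB (gW m) (2 ^ (4 + i)) ^^^ 2 ^ (4 + i)) (2 ^ (4 + j)) then 1 else 0 := by
  have hb : ∀ k < 4, 2 ^ (4 + k) < 256 := by decide
  obtain ⟨h1, h2⟩ := wA_vec (gW_ok hm) (hb i hi)
  have e : Mv (wA (gW m)) (vec (2 ^ (4 + i))) = vec (wB (gW m) (2 ^ (4 + i)) ^^^ 2 ^ (4 + i)) := by
    rw [vec_xor, ← h2]; rfl
  exact ⟨e, by rw [e, pb_vec (xor_lt h1 (hb i hi)) (hb j hj)]⟩

/-- The maps fixing the standard subspace are the sixty-four words. -/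
theorem fix_eq {y : qAut qm} (hy : Fix W0 y) : ∃ m < 64, y = wA (gW m) := by
  have h2 := hy.invol perp_W0
  set f : ℕ → V8 := fun i => vec (2 ^ (4 + i)) with hf
  set t : ℕ → ℕ → ZMod 2 := fun i j => pb (Mv y (f i)) (f j) with ht
  have hsym : ∀ i j, t i j = t j i := fun i j => by rw [ht]; dsimp only; rw [pb_Mv h2, pb_comm]
  have hdiag : ∀ i, t i i = 0 := fun i => by
    rw [ht]; dsimp only
    rw [pb_comm, ← qm_Mv]
    exact ts_W0 _ (perp_W0 ▸ hy.range_le ⟨_, rfl⟩)
  obtain ⟨m, hm, hb⟩ := check_code ![decide (t 0 1 = 1), decide (t 0 2 = 1), decide (t 0 3 = 1),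
    decide (t 1 2 = 1), decide (t 1 3 = 1), decide (t 2 3 = 1)]
  refine ⟨m, hm, ?_⟩
  have hent : ∀ i < 4, ∀ j < 4, pb (Mv (wA (gW m)) (f i)) (f j) = t i j := by
    intro i hi j hj
    rw [hf]; dsimp only
    rw [(entry_gW hm hi hj).2, check_entry m hm i hi j hj]
    have b0 : m.testBit 0 = decide (t 0 1 = 1) := hb 0
    have b1 : m.testBit 1 = decide (t 0 2 = 1) := hb 1
    have b2 : m.testBit 2 = decide (t 0 3 = 1) := hb 2
    have b3 : m.testBit 3 = decide (t 1 2 = 1) := hb 3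
    have b4 : m.testBit 4 = decide (t 1 3 = 1) := hb 4
    have b5 : m.testBit 5 = decide (t 2 3 = 1) := hb 5
    have d : ∀ a : ZMod 2, (if decide (a = 1) = true then (1 : ZMod 2) else 0) = a := by decide
    interval_cases i <;> interval_cases j <;> simp only [entry, b0, b1, b2, b3, b4, b5, d, Bool.false_eq_true, if_false]
    all_goals first | exact (hdiag _).symm | exact hsym _ _
  refine ext_vec fun k hk => ?_
  by_cases hk4 : k < 4
  · have : vec (2 ^ k) ∈ W0 := Submodule.subset_span ⟨⟨k, hk4⟩, rfl⟩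
    rw [hy _ this, fix_gW hm _ this]
  · obtain ⟨i, hi, rfl⟩ : ∃ i < 4, k = 4 + i := ⟨k - 4, by omega, by omega⟩
    refine add_right_cancel (b := f i) ?_
    show Mv y (f i) = Mv (wA (gW m)) (f i)
    set d := Mv y (f i) + Mv (wA (gW m)) (f i) with hd
    have hdW : d ∈ W0 := add_mem (perp_W0 ▸ hy.range_le ⟨_, rfl⟩) (perp_W0 ▸ (fix_gW hm).range_le ⟨_, rfl⟩)
    have hdf : ∀ j < 4, pb d (f j) = 0 := fun j hj => by
      rw [hd, pb_add_left, hent i hi j hj]; exact CharTwo.add_self_eq_zero _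
    refine eq8 (pb_nondeg fun v => ?_)
    rw [← hd]
    obtain ⟨x, hx, rfl⟩ := vec_surj v
    have hx' : ∀ x < 256, x = (x % 16) ^^^ (if x.testBit 4 then 16 else 0) ^^^ (if x.testBit 5 then 32 else 0) ^^^
        (if x.testBit 6 then 64 else 0) ^^^ (if x.testBit 7 then 128 else 0) := by decide +kernel
    have e0 : pb d (vec (x % 16)) = 0 :=
      pb_perp hdW (perp_W0.symm ▸ (mem_W0 (by omega)).2 (by omega))
    have e1 : ∀ (b : Bool) (j : ℕ), j < 4 → pb d (vec (if b then 2 ^ (4 + j) else 0)) = 0 := fun b j hj => by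
      cases b
      · simp [vec_zero, pb_zero_right]
      · exact hdf j hj
    rw [hx' x hx, vec_xor, vec_xor, vec_xor, vec_xor, pb_add_right, pb_add_right, pb_add_right, pb_add_right, e0]
    have q0 := e1 (x.testBit 4) 0 (by norm_num)
    have q1 := e1 (x.testBit 5) 1 (by norm_num)
    have q2 := e1 (x.testBit 6) 2 (by norm_num)
    have q3 := e1 (x.testBit 7) 3 (by norm_num)
    norm_num at q0 q1 q2 q3
    rw [q0, q1, q2, q3]
    simp

theorem gW_inj {m m' : ℕ} (hm : m < 64) (hm' : m' < 64) (h : wA (gW m) = wA (gW m')) : m = m' := by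
  apply Nat.eq_of_testBit_eq
  intro b
  by_cases hb : b < 6
  · have key : ∀ i < 4, ∀ j < 4, (if bn (wB (gW m) (2 ^ (4 + i)) ^^^ 2 ^ (4 + i)) (2 ^ (4 + j)) then (1 : ZMod 2) else 0) =
        if bn (wB (gW m') (2 ^ (4 + i)) ^^^ 2 ^ (4 + i)) (2 ^ (4 + j)) then 1 else 0 := fun i hi j hj => by
      rw [← (entry_gW hm hi hj).2, ← (entry_gW hm' hi hj).2, h]
    have inj : ∀ a c : Bool, ((if a then (1 : ZMod 2) else 0) = if c then 1 else 0) → a = c := by decide
    have hk : ∀ i < 4, ∀ j < 4, _ := fun i hi j hj =>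
      (check_entry m hm i hi j hj).symm.trans ((inj _ _ (key i hi j hj)).trans (check_entry m' hm' i hi j hj))
    interval_cases b
    exacts [hk 0 (by norm_num) 1 (by norm_num), hk 0 (by norm_num) 2 (by norm_num),
      hk 0 (by norm_num) 3 (by norm_num), hk 1 (by norm_num) 2 (by norm_num), hk 1 (by norm_num) 3 (by norm_num),
      hk 2 (by norm_num) 3 (by norm_num)]
  · rw [Nat.testBit_lt_two_pow (lt_of_lt_of_le hm ?_), Nat.testBit_lt_two_pow (lt_of_lt_of_le hm' ?_)] <;>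
      exact Nat.pow_le_pow_right (n := 2) two_pos (not_lt.1 hb)

theorem rank_pf {m : ℕ} (hm : m < 64) (h4 : qRank qm (wA (gW m)) = 4) : pf m = true := by
  by_contra hp
  obtain ⟨x, hx, hx0, hfix⟩ := check_degenerate m hm (by simpa using hp)
  have hy := fix_gW hm
  have hKW : W0 = Kg (wA (gW m)) := by
    refine Submodule.eq_of_le_of_finrank_eq (fun w hw => Mv_eq_zero.2 (hy w hw)) ?_
    have := finrank_Kg (hy.invol perp_W0)
    rw [finrank_W0]; omega
  have hk : vec (16 * x) ∈ W0 := by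
    rw [hKW, mem_Kg, Mv_eq_zero, (wA_vec (gW_ok hm) (by omega)).2, hfix]
  have := (mem_W0 (by omega)).1 hk
  omega

/-- The base element. -/
noncomputable def g0 : qAut qm := wA (gW 33)

/-- Each rank four element fixing the standard subspace is conjugate to the base one. -/
theorem std_orbit {y : qAut qm} (hy : Fix W0 y) (h4 : qRank qm y = 4) :
    ∃ c ∈ Ev, (∀ w ∈ W0, c.1 w ∈ W0) ∧ y * c = c * g0 := by
  obtain ⟨m, hm, rfl⟩ := fix_eq hy
  refine ⟨wA (cW m), wA_mem _, fun w hw => ?_, ext_vec fun k hk => ?_⟩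
  · obtain ⟨x, hx, rfl⟩ := vec_surj w
    obtain ⟨h1, h2⟩ := wA_vec (cW_ok hm) hx
    rw [h2, mem_W0 h1]
    exact check_cW_W m hm x ((mem_W0 hx).1 hw)
  · have hk' : (2 : ℕ) ^ k < 256 := lt_of_lt_of_le (Nat.pow_lt_pow_right one_lt_two hk) (by norm_num)
    obtain ⟨a1, a2⟩ := wA_vec (cW_ok hm) hk'
    obtain ⟨b1, b2⟩ := wA_vec (gW_ok (show 33 < 64 by norm_num)) hk'
    rw [qAut_mul_apply, qAut_mul_apply, g0, a2, (wA_vec (gW_ok hm) a1).2, b2, (wA_vec (cW_ok hm) b1).2,
      check_orbit m hm (rank_pf hm h4) k hk]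

end CfsgLib.CoOneWeak
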