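import Mathlib
import Cfsg.Agent.Lib.CoOneRec.Weak.Std

/-!
Frames of totally singular subspaces of dimensions two, three and four, and the groups fixing them.
-/

set_option autoImplicit false
set_option linter.style.haveILetI false
set_option linter.unusedSimpArgs false

namespace CfsgLib.CoOneWeak

open CfsgLib.Classical CfsgLib.CoType

theorem li_sub {U : Sub} {k : ℕ} (B : Module.Basis (Fin k) (ZMod 2) U) :
    LinearIndependent (ZMod 2) fun i => (B i : V8) :=
  B.linearIndependent.map' U.subtype (Submodule.ker_subtype _)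

theorem span_sub {U : Sub} {k : ℕ} (B : Module.Basis (Fin k) (ZMod 2) U) :
    Submodule.span (ZMod 2) (Set.range fun i => (B i : V8)) = U := by
  rw [show (fun i => (B i : V8)) = U.subtype ∘ B from rfl, Set.range_comp, ← Submodule.map_span, B.span_eq,
    Submodule.map_top, Submodule.range_subtype]

/-- A totally singular plane has two singular planes beside it meeting in a line. -/
theorem plane_frame {W : Sub} (hW : TS W) (h2 : Module.finrank (ZMod 2) W = 2) :
    ∃ a b b', a ∈ perp W ∧ b ∈ perp W ∧ b' ∈ perp W ∧ qm a = 0 ∧ qm b = 0 ∧ qm b' = 0 ∧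
      pb a b = 0 ∧ pb a b' = 0 ∧ pb b b' = 1 ∧ a ∉ W := by
  let B := Module.finBasisOfFinrankEq (ZMod 2) W h2
  obtain ⟨φ, hφ⟩ := exists_map (fun i : Fin 2 => vec (2 ^ i.val)) (fun i => (B i : V8))
    (li_std.comp (fun i : Fin 2 => (⟨i.val, by omega⟩ : Fin 4)) (fun i j h => by
      ext; exact congrArg (fun x : Fin 4 => x.val) h)) (li_sub B)
    (fun i => qm_std ⟨i.val, by omega⟩) (fun i => hW _ (B i).2)
    (fun i j => pb_std ⟨i.val, by omega⟩ ⟨j.val, by omega⟩) (fun i j => pb_perp (B i).2 (hW.isot (B j).2))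
  have hp : ∀ x < 256, bn 1 x = false → bn 2 x = false → φ.1 (vec x) ∈ perp W := fun x hx h1 h2' => by
    rw [← span_sub B, mem_perp]
    intro u hu
    induction hu using Submodule.span_induction with
    | mem w hw =>
      obtain ⟨i, rfl⟩ := hw
      dsimp only
      rw [← hφ i, pb_map, pb_vec (by fin_cases i <;> norm_num) hx]
      fin_cases i <;> simp [h1, h2']
    | zero => exact pb_zero_left _
    | add u w _ _ e1 e2 => rw [pb_add_left, e1, e2, add_zero]
    | smul r u _ e1 => rw [pb_smul_left, e1, mul_zero]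
  have hv : ∀ x < 256, ∀ y < 256, pb (φ.1 (vec x)) (φ.1 (vec y)) = if bn x y then 1 else 0 := fun x hx y hy => by
    rw [pb_map, pb_vec hx hy]
  have hq : ∀ x < 256, qn x = false → qm (φ.1 (vec x)) = 0 := fun x hx h => by
    rw [qAut_map, qm_vec hx, h]; rfl
  refine ⟨φ.1 (vec 4), φ.1 (vec 8), φ.1 (vec 128), hp 4 (by norm_num) (by decide +kernel) (by decide +kernel),
    hp 8 (by norm_num) (by decide +kernel) (by decide +kernel),
    hp 128 (by norm_num) (by decide +kernel) (by decide +kernel), hq 4 (by norm_num) (by decide +kernel),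
    hq 8 (by norm_num) (by decide +kernel), hq 128 (by norm_num) (by decide +kernel), ?_, ?_, ?_, fun hmem => ?_⟩
  · rw [hv 4 (by norm_num) 8 (by norm_num), ite_zero_iff]; decide +kernel
  · rw [hv 4 (by norm_num) 128 (by norm_num), ite_zero_iff]; decide +kernel
  · rw [hv 8 (by norm_num) 128 (by norm_num), ite_one_iff]; decide +kernel
  · have h := pb_perp hmem (hp 64 (by norm_num) (by decide +kernel) (by decide +kernel))
    rw [hv 4 (by norm_num) 64 (by norm_num), ite_zero_iff] at h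
    revert h; decide +kernel

/-- A group of involutions of rank four fixing a totally singular subspace of dimension three has order at
most eight. -/
theorem three_bound {U : Sub} (hU : TS U) (h3 : Module.finrank (ZMod 2) U = 3) (P : Subgroup (qAut qm))
    (hfix : ∀ y ∈ P, ∀ u ∈ U, y.1 u = u) (h2 : ∀ y ∈ P, ∀ x, y.1 (y.1 x) = x)
    (h4 : ∀ y ∈ P, y ≠ 1 → qRank qm y = 4) : Nat.card P ≤ 8 := by
  classical
  haveI := finite_qAut qm
  let B := Module.finBasisOfFinrankEq (ZMod 2) U h3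
  set p := (B 0 : V8) with hpdef
  set s := (B 1 : V8) with hsdef
  set w := (B 2 : V8) with hwdef
  have hli : ∀ a b c : ZMod 2, a • p + b • s + c • w = 0 → a = 0 ∧ b = 0 ∧ c = 0 := fun a b c h => by
    have key := Fintype.linearIndependent_iff.1 (li_sub B) ![a, b, c] (by rw [Fin.sum_univ_three]; exact h)
    exact ⟨key 0, key 1, key 2⟩
  have hsing : Sing p := ⟨fun h => B.ne_zero 0 (Subtype.ext h), hU _ (B 0).2⟩
  have hT : Typ p 0 s w := by
    refine ⟨hU _ (B 1).2, pb_perp (B 0).2 (hU.isot (B 1).2), ?_, hU _ (B 2).2,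
      pb_perp (B 0).2 (hU.isot (B 2).2), ?_, pb_perp (B 2).2 (hU.isot (B 1).2), ?_⟩
    · rintro (h | h)
      · exact one_ne_zero (hli 0 1 0 (by simp [h])).2.1
      · exact one_ne_zero (hli 1 1 0 (by simp [h, add_self8])).1
    · rintro (h | h)
      · exact one_ne_zero (hli 0 0 1 (by simp [h])).2.2
      · exact one_ne_zero (hli 1 0 1 (by simp [h, add_self8])).1
    · rintro (h | h)
      · exact one_ne_zero (hli 0 1 1 (by simpa [add_comm] using h)).2.1
      · exact one_ne_zero (hli 1 1 1 (by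
          rw [one_smul, one_smul, one_smul, add_assoc, add_comm s w, h, add_self8])).1
  obtain ⟨e, f, he, hf, qe, qf, hef, hdec⟩ := fact_frame hsing hT
  have hspanU : ∀ x, Span3 p s w x → x ∈ U := by
    rintro x ⟨α, β, γ, rfl⟩
    exact add_mem (add_mem (U.smul_mem _ (B 0).2) (U.smul_mem _ (B 1).2)) (U.smul_mem _ (B 2).2)
  have hm4 : ∀ x, M4 p s w x ↔ x ∈ perp U := fun x => by
    refine ⟨fun h => ?_, fun h => ⟨pb_perp (B 0).2 h, pb_perp (B 1).2 h, pb_perp (B 2).2 h⟩⟩
    rw [← span_sub B, mem_perp]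
    intro u hu
    induction hu using Submodule.span_induction with
    | mem v hv => obtain ⟨i, rfl⟩ := hv; fin_cases i; exacts [h.1, h.2.1, h.2.2]
    | zero => exact pb_zero_left _
    | add a b _ _ e1 e2 => rw [pb_add_left, e1, e2, add_zero]
    | smul r u _ e1 => rw [pb_smul_left, e1, mul_zero]
  have heU : ∀ u ∈ U, pb u e = 0 ∧ pb u f = 0 := fun u hu =>
    ⟨pb_perp hu ((hm4 e).1 he), pb_perp hu ((hm4 f).1 hf)⟩
  have hMperp : ∀ y ∈ P, ∀ x, Mv y x ∈ perp U := fun y hy x => mem_perp.2 fun u hu => by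
    rw [pb_comm, pb_Mv (h2 y hy), Mv_eq_zero.2 (hfix y hy u hu), pb_zero_right]
  have hMU : ∀ y ∈ P, ∀ u ∈ U, Mv y u = 0 := fun y hy u hu => Mv_eq_zero.2 (hfix y hy u hu)
  -- the images of the frame lie in the subspace
  have himg : ∀ y ∈ P, Mv y e ∈ U ∧ Mv y f ∈ U := by
    intro y hy
    by_cases h1 : y = 1
    · subst h1; rw [Mv_one, Mv_one]; exact ⟨zero_mem _, zero_mem _⟩
    obtain ⟨r, hr, -, hz⟩ := exists_point (h2 y hy) (h4 y hy h1)
    have hL : ∀ u v, qm (Mv y (u + v)) = qm (Mv y u) + qm (Mv y v) := fun u v => by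
      rw [map_add, qm_add, Mv_apply, Mv_apply, d_iso (h2 y hy), add_zero]
    have hLU : ∀ u ∈ U, qm (Mv y u) = 0 := fun u hu => by rw [hMU y hy u hu, map_zero]
    obtain ⟨xe, hxe, ee⟩ := hdec _ ((hm4 _).2 (hMperp y hy e))
    obtain ⟨xf, hxf, ff⟩ := hdec _ ((hm4 _).2 (hMperp y hy f))
    obtain ⟨q1, -, -⟩ := frame_quad hsing hT he hf qe qf hef hxe ee
    obtain ⟨q2, -, -⟩ := frame_quad hsing hT he hf qe qf hef hxf ff
    have hkey : qm (Mv y e) = 0 ∧ qm (Mv y f) = 0 := by
      by_contra hn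
      have same : qm (Mv y e) = 1 ↔ qm (Mv y f) = 1 := by
        constructor
        · intro h
          rw [q1] at h
          obtain ⟨h', h''⟩ := (by decide : ∀ a b : ZMod 2, a * b = 1 → a = 1 ∧ b = 1) _ _ h
          rw [h', h'', one_smul, one_smul] at ee
          have e2 := congrArg (Mv y) ee
          rw [map_add, map_add, hMU y hy _ (hspanU _ hxe), add_zero,
            show Mv y (Mv y e) = 0 from Wg_le_Kg (h2 y hy) ⟨e, rfl⟩] at e2
          rw [← eq8 e2.symm, q1, h', h'']; rfl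
        · intro h
          rw [q2] at h
          obtain ⟨h', h''⟩ := (by decide : ∀ a b : ZMod 2, a * b = 1 → a = 1 ∧ b = 1) _ _ h
          rw [h', h'', one_smul, one_smul] at ff
          have e2 := congrArg (Mv y) ff
          rw [map_add, map_add, hMU y hy _ (hspanU _ hxf), add_zero,
            show Mv y (Mv y f) = 0 from Wg_le_Kg (h2 y hy) ⟨f, rfl⟩] at e2
          rw [eq8 e2.symm, q2, h', h'']; rfl
      have he1 : qm (Mv y e) = 1 := by
        rcases two_cases (qm (Mv y e)) with h | h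
        · exact same.2 ((two_cases _).resolve_left fun h' => hn ⟨h, h'⟩)
        · exact h
      have hf1 := same.1 he1
      have pe : pb r e = 1 := (two_cases _).resolve_left fun h => by
        have h' : qm (Mv y e) = 0 := hz e h
        rw [he1] at h'; exact one_ne_zero h'
      have pf' : pb r f = 1 := (two_cases _).resolve_left fun h => by
        have h' : qm (Mv y f) = 0 := hz f h
        rw [hf1] at h'; exact one_ne_zero h'
      have pu : ∀ u ∈ U, pb u r = 0 := fun u hu => by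
        rw [pb_comm]
        refine (two_cases _).resolve_right fun h => ?_
        have h' : qm (Mv y (e + u)) = 0 := hz _ (by rw [pb_add_right, pe, h]; rfl)
        rw [hL, he1, hLU u hu] at h'
        simp at h'
      obtain ⟨x, hx, hrx⟩ := hdec r ((hm4 r).2 (mem_perp.2 pu))
      obtain ⟨q3, -, -⟩ := frame_quad hsing hT he hf qe qf hef hx hrx
      rw [hr.2, pe, pf', one_mul] at q3
      exact zero_ne_one q3
    have hye : y.1 e = Mv y e + e := by rw [Mv_apply, add_assoc, add_self8, add_zero]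
    have hyf : y.1 f = Mv y f + f := by rw [Mv_apply, add_assoc, add_self8, add_zero]
    have qye : qm (y.1 e) = 0 := (qAut_map y e).trans qe
    have qyf : qm (y.1 f) = 0 := (qAut_map y f).trans qf
    obtain ⟨-, be, af⟩ := frame_quad hsing hT he hf qe qf hef hxe ee
    obtain ⟨-, be', af'⟩ := frame_quad hsing hT he hf qe qf hef hxf ff
    have kill : ∀ z₁ z₂ : V8, z₁ ∈ perp U → pb z₁ z₂ = 1 → (∀ u ∈ U, pb u z₂ = 0) → y.1 z₁ ∉ U := by
      intro z₁ z₂ _ h12 hu hmem
      have h5 := hfix y hy _ hmem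
      rw [h2 y hy] at h5
      rw [← h5] at hmem
      exact one_ne_zero (h12.symm.trans (hu _ hmem))
    constructor
    · have hb : pb (Mv y e) e = 0 := by
        have h := qye
        rw [hye, qm_add, hkey.1, qe, zero_add, zero_add] at h
        exact h
      rw [hb, zero_smul, add_zero] at ee
      rcases two_cases (pb (Mv y e) f) with h | h
      · rw [h, zero_smul, zero_add] at ee; rw [ee]; exact hspanU _ hxe
      · exfalso
        rw [h, one_smul] at ee
        refine kill e f ((hm4 e).1 he) hef (fun u hu => (heU u hu).2) ?_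
        rw [hye, ee, add_comm e xe, add_assoc, add_self8, add_zero]
        exact hspanU _ hxe
    · have hb : pb (Mv y f) f = 0 := by
        have h := qyf
        rw [hyf, qm_add, hkey.2, qf, zero_add, zero_add] at h
        exact h
      rw [hb, zero_smul, zero_add] at ff
      rcases two_cases (pb (Mv y f) e) with h | h
      · rw [h, zero_smul, zero_add] at ff; rw [ff]; exact hspanU _ hxf
      · exfalso
        rw [h, one_smul] at ff
        refine kill f e ((hm4 f).1 hf) (by rw [pb_comm, hef]) (fun u hu => (heU u hu).1) ?_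
        rw [hyf, ff, add_comm f xf, add_assoc, add_self8, add_zero]
        exact hspanU _ hxf
  -- injectivity and the relation
  have hker : ∀ y ∈ P, Mv y e = 0 → Mv y f = 0 → y = 1 := by
    intro y hy a b
    by_contra h1
    have hle : Wg y ≤ U := by
      rintro _ ⟨v, rfl⟩
      refine mem_of_perp fun x hx => ?_
      obtain ⟨x', hx', hxe⟩ := hdec x ((hm4 x).2 hx)
      rw [pb_Mv (h2 y hy), hxe, map_add, map_add, map_smul, map_smul, a, b, hMU y hy _ (hspanU _ hx'),
        smul_zero, smul_zero, add_zero, add_zero, pb_zero_right]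
    have := Submodule.finrank_mono hle
    rw [← qRank_eq, h4 y hy h1, h3] at this
    omega
  have hrel : ∀ y ∈ P, Mv y e = 0 ∨ Mv y f = 0 ∨ Mv y e = Mv y f := by
    intro y hy
    by_cases ha : Mv y e = 0
    · exact .inl ha
    obtain ⟨v, hv⟩ : ∃ v, pb (Mv y e) v = 1 := by
      by_contra hn
      push Not at hn
      exact ha (pb_nondeg fun v => (two_cases _).resolve_right (hn v))
    obtain ⟨x, hx, hvx⟩ := hdec _ ((hm4 _).2 (hMperp y hy v))
    have h := congrArg (Mv y) hvx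
    rw [show Mv y (Mv y v) = 0 from Wg_le_Kg (h2 y hy) ⟨v, rfl⟩, map_add, map_add, map_smul, map_smul,
      hMU y hy _ (hspanU _ hx), add_zero, pb_Mv (h2 y hy), pb_Mv (h2 y hy) v e, pb_comm v (Mv y e), hv,
      one_smul] at h
    rcases two_cases (pb v (Mv y f)) with e0 | e0 <;> rw [e0] at h
    · rw [zero_smul, zero_add] at h; exact .inr (.inl h.symm)
    · rw [one_smul] at h; exact .inr (.inr (eq8 h.symm))
  let α : P → V8 × V8 := fun y => (Mv y.1 e, Mv y.1 f)
  have hadd : ∀ y y' : P, Mv (y * y').1 e = Mv y'.1 e + Mv y.1 e ∧ Mv (y * y').1 f = Mv y'.1 f + Mv y.1 f := by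
    intro y y'
    constructor
    · rw [Subgroup.coe_mul, Mv_mul', hfix _ y.2 _ (himg _ y'.2).1]
    · rw [Subgroup.coe_mul, Mv_mul', hfix _ y.2 _ (himg _ y'.2).2]
  have hinj : Function.Injective α := by
    intro y y' h
    simp only [α, Prod.mk.injEq] at h
    have h1 := hker _ (y * y').2 (by rw [(hadd y y').1, h.1, add_self8]) (by rw [(hadd y y').2, h.2, add_self8])
    have h6 : y'.1 * y'.1 = 1 := qAut_ext fun x => h2 _ y'.2 x
    exact Subtype.ext (mul_right_cancel (h1.trans h6.symm))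
  have hUcard : Nat.card U = 8 := by rw [card_sub, h3]; rfl
  by_cases hA : ∀ y : P, Mv y.1 f = 0 → Mv y.1 e = 0
  · refine le_of_le_of_eq (Nat.card_le_card_of_injective (fun y : P => (⟨Mv y.1 f, (himg _ y.2).2⟩ : U)) ?_) hUcard
    intro y y' h
    have h' : Mv y.1 f = Mv y'.1 f := congrArg (fun x : U => (x : V8)) h
    refine hinj (Prod.ext ?_ h')
    have h0 := hA (y * y') (by rw [(hadd y y').2, h', add_self8])
    rw [(hadd y y').1] at h0
    exact (eq8 h0).symm
  by_cases hB : ∀ y : P, Mv y.1 e = 0 → Mv y.1 f = 0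
  · refine le_of_le_of_eq (Nat.card_le_card_of_injective (fun y : P => (⟨Mv y.1 e, (himg _ y.2).1⟩ : U)) ?_) hUcard
    intro y y' h
    have h' : Mv y.1 e = Mv y'.1 e := congrArg (fun x : U => (x : V8)) h
    refine hinj (Prod.ext h' ?_)
    have h0 := hB (y * y') (by rw [(hadd y y').1, h', add_self8])
    rw [(hadd y y').2] at h0
    exact (eq8 h0).symm
  push Not at hA hB
  obtain ⟨y₀, f0, a0⟩ := hA
  obtain ⟨y₁, e1, b1⟩ := hB
  set a := Mv y₀.1 e with hadef
  have hab : Mv y₁.1 f = a := by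
    rcases hrel _ (y₀ * y₁).2 with h | h | h
    · rw [(hadd y₀ y₁).1, e1, zero_add] at h; exact absurd h a0
    · rw [(hadd y₀ y₁).2, f0, add_zero] at h; exact absurd h b1
    · rw [(hadd y₀ y₁).1, (hadd y₀ y₁).2, e1, f0, zero_add, add_zero] at h; exact h.symm
  have hall : ∀ y : P, (Mv y.1 e = 0 ∨ Mv y.1 e = a) ∧ (Mv y.1 f = 0 ∨ Mv y.1 f = a) := by
    intro y
    rcases hrel _ y.2 with h | h | h
    · refine ⟨.inl h, ?_⟩
      rcases hrel _ (y₀ * y).2 with h' | h' | h'
      · rw [(hadd y₀ y).1, h, zero_add] at h'; exact absurd h' a0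
      · rw [(hadd y₀ y).2, f0, add_zero] at h'; exact .inl h'
      · rw [(hadd y₀ y).1, (hadd y₀ y).2, h, f0, zero_add, add_zero] at h'; exact .inr h'.symm
    · refine ⟨?_, .inl h⟩
      rcases hrel _ (y₁ * y).2 with h' | h' | h'
      · rw [(hadd y₁ y).1, e1, add_zero] at h'; exact .inl h'
      · rw [(hadd y₁ y).2, h, zero_add] at h'; exact absurd h' b1
      · rw [(hadd y₁ y).1, (hadd y₁ y).2, h, e1, hab, zero_add, add_zero] at h'; exact .inr h'
    · rcases hrel _ (y₀ * y).2 with h' | h' | h'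
      · rw [(hadd y₀ y).1] at h'
        have := eq8 h'
        exact ⟨.inr this, .inr (h ▸ this)⟩
      · rw [(hadd y₀ y).2, f0, add_zero] at h'; exact ⟨.inl (h.trans h'), .inl h'⟩
      · rw [(hadd y₀ y).1, (hadd y₀ y).2, f0, add_zero, h, add_eq_left] at h'; exact absurd h' a0
  have h4' : Nat.card P ≤ Nat.card (Bool × Bool) := by
    refine Nat.card_le_card_of_injective (fun y : P => (decide (Mv y.1 e = 0), decide (Mv y.1 f = 0))) ?_
    intro y y' h
    simp only [Prod.mk.injEq, decide_eq_decide] at h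
    obtain ⟨k1, k2⟩ := hall y
    obtain ⟨l1, l2⟩ := hall y'
    refine hinj (Prod.ext ?_ ?_) <;> dsimp only [α]
    · rcases k1 with k | k <;> rcases l1 with l | l <;> rw [k, l] at h ⊢
      · exact absurd (h.1.1 rfl) a0
      · exact absurd (h.1.2 rfl) a0
    · rcases k2 with k | k <;> rcases l2 with l | l <;> rw [k, l] at h ⊢
      · exact absurd (h.2.1 rfl) a0
      · exact absurd (h.2.2 rfl) a0
  rw [Nat.card_eq_fintype_card (α := Bool × Bool)] at h4'
  exact h4'.trans (by decide)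

/-- A frame of a totally singular subspace of dimension four. -/
theorem four_frame {W : Sub} (hW : TS W) (h4 : Module.finrank (ZMod 2) W = 4) :
    ∃ φ : qAut qm, (∀ w, φ.1 w ∈ W ↔ w ∈ W0) ∧ perp W = W := by
  let B := Module.finBasisOfFinrankEq (ZMod 2) W h4
  obtain ⟨φ, hφ⟩ := exists_map (fun i : Fin 4 => vec (2 ^ i.val)) (fun i => (B i : V8)) li_std (li_sub B)
    qm_std (fun i => hW _ (B i).2) pb_std (fun i j => pb_perp (B i).2 (hW.isot (B j).2))
  have hmap : W0.map φ.1.toLinearMap = W := by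
    rw [W0, Submodule.map_span, ← Set.range_comp, ← span_sub B]
    congr 1
    exact congrArg Set.range (funext hφ)
  refine ⟨φ, fun w => ?_, ?_⟩
  · conv_lhs => rw [← hmap]
    exact ⟨fun ⟨x, hx, e⟩ => φ.1.injective e ▸ hx, fun h => ⟨w, h, rfl⟩⟩
  · refine (Submodule.eq_of_le_of_finrank_eq hW.isot ?_).symm
    have := finrank_perp W
    omega

theorem qRank_conj (φ y : qAut qm) : qRank qm (φ * y * φ⁻¹) = qRank qm y := by
  rw [qRank_eq, qRank_eq]
  have : Wg (φ * y * φ⁻¹) = (Wg y).map φ.1.toLinearMap := by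
    ext w
    have key : ∀ v, Mv (φ * y * φ⁻¹) (φ.1 v) = φ.1 (Mv y v) := fun v => by
      rw [Mv_apply, Mv_apply, qAut_mul_apply, qAut_mul_apply, map_add,
        show (φ⁻¹).1 (φ.1 v) = v from φ.1.symm_apply_apply v]
    constructor
    · rintro ⟨v, rfl⟩
      obtain ⟨v, rfl⟩ := φ.1.surjective v
      exact ⟨Mv y v, ⟨v, rfl⟩, (key v).symm⟩
    · rintro ⟨_, ⟨v, rfl⟩, rfl⟩
      exact ⟨φ.1 v, key v⟩
  rw [this]
  exact LinearEquiv.finrank_map_eq φ.1 _

/-- The facts on the maps fixing a totally singular subspace of dimension four pointwise. -/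
theorem four_facts {W : Sub} (hW : TS W) (h4 : Module.finrank (ZMod 2) W = 4) :
    (Nat.card {y : qAut qm // Fix W y} ≤ 64) ∧
    (Nat.card {y : qAut qm // Fix W y ∧ qRank qm y = 4} = 28) ∧
    (∀ g g', Fix W g → qRank qm g = 4 → Fix W g' → qRank qm g' = 4 →
      ∃ c ∈ Ev, (∀ w ∈ W, c.1 w ∈ W) ∧ c * g = g' * c) ∧
    (∀ g, Fix W g → qRank qm g = 4 →
      ∃ k ∈ Ev, k ^ 5 = 1 ∧ (∀ w ∈ W, k.1 w ∈ W) ∧ k * g = g * k ∧ ∀ w ∈ W, k.1 w = w → w = 0) := by
  haveI : Ev.Normal := by unfold Ev; infer_instance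
  haveI := finite_qAut qm
  obtain ⟨φ, hφ, hP⟩ := four_frame hW h4
  have hφi : ∀ x, φ.1 ((φ⁻¹).1 x) = x := fun x => φ.1.apply_symm_apply x
  have hφi' : ∀ x, (φ⁻¹).1 (φ.1 x) = x := fun x => φ.1.symm_apply_apply x
  have hfix : ∀ y, Fix W y ↔ Fix W0 (φ⁻¹ * y * φ) := by
    intro y
    constructor
    · intro h w hw
      rw [qAut_mul_apply, qAut_mul_apply, h _ ((hφ w).2 hw), hφi']
    · intro h w hw
      have hw' : (φ⁻¹).1 w ∈ W0 := (hφ _).1 (by rwa [hφi])
      have := congrArg φ.1 (h _ hw')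
      rwa [qAut_mul_apply, qAut_mul_apply, hφi, hφi] at this
  have hrank : ∀ y, qRank qm (φ⁻¹ * y * φ) = qRank qm y := fun y => by
    have := qRank_conj φ⁻¹ y
    rwa [inv_inv] at this
  have mem_pre : ∀ w, (φ⁻¹).1 w ∈ W0 ↔ w ∈ W := fun w => by rw [← hφ, hφi]
  refine ⟨?_, ?_, fun g g' hg hr hg' hr' => ?_, fun g hg hr => ?_⟩
  · have hs : Function.Surjective (fun m : Fin 64 =>
        (⟨φ * wA (gW m.val) * φ⁻¹, (hfix _).2 (by
          rw [show φ⁻¹ * (φ * wA (gW m.val) * φ⁻¹) * φ = wA (gW m.val) by group]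
          exact fix_gW m.isLt)⟩ : {y : qAut qm // Fix W y})) := by
      rintro ⟨y, hy⟩
      obtain ⟨m, hm, e⟩ := fix_eq ((hfix y).1 hy)
      exact ⟨⟨m, hm⟩, Subtype.ext (by dsimp only; rw [← e]; group)⟩
    simpa using Nat.card_le_card_of_surjective _ hs
  · have h28 : Fintype.card {m : Fin 64 // pf m.val = true} = 28 := by decide +kernel
    rw [← h28, ← Nat.card_eq_fintype_card]
    symm
    have hp4 : ∀ m : Fin 64, pf m.val = true → qRank qm (φ * wA (gW m.val) * φ⁻¹) = 4 := by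
      intro m hm
      rw [qRank_conj]
      have hb : ∀ y : qAut qm, (∀ x, y.1 (y.1 x) = x) → (∀ x, y.1 x = x → x ∈ W0) → qRank qm y = 4 := by
        intro y hy hK
        have h1 := (rank_le_four hy).1
        have h2 := finrank_Kg hy
        have h3 := Submodule.finrank_mono (show Kg y ≤ W0 from fun x hx => hK x (Mv_eq_zero.1 hx))
        rw [finrank_W0] at h3
        omega
      refine hb _ ((fix_gW m.isLt).invol perp_W0) fun x hx => ?_
      obtain ⟨j, hj, rfl⟩ := vec_surj x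
      obtain ⟨h1, h2⟩ := wA_vec (gW_ok m.isLt) hj
      rw [h2, vec_eq_iff h1 hj] at hx
      rw [mem_W0 hj]
      exact (by decide +kernel : ∀ m : Fin 64, pf m.val = true → ∀ j : Fin 256, wB (gW m.val) j.val = j.val → j.val < 16)
        m hm ⟨j, hj⟩ hx
    refine Nat.card_congr (Equiv.ofBijective (fun m : {m : Fin 64 // pf m.val = true} =>
      (⟨φ * wA (gW m.1.val) * φ⁻¹, (hfix _).2 (by
        rw [show φ⁻¹ * (φ * wA (gW m.1.val) * φ⁻¹) * φ = wA (gW m.1.val) by group]
        exact fix_gW m.1.isLt), hp4 _ m.2⟩ : {y : qAut qm // Fix W y ∧ qRank qm y = 4})) ⟨?_, ?_⟩)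
    · intro m m' h
      have h' := congrArg Subtype.val h
      simp only [mul_left_inj, mul_right_inj] at h'
      exact Subtype.ext (Fin.ext (gW_inj m.1.isLt m'.1.isLt h'))
    · rintro ⟨y, hy, hy4⟩
      obtain ⟨m, hm, e⟩ := fix_eq ((hfix y).1 hy)
      have hpf : pf m = true := rank_pf hm (by rw [← e, hrank, hy4])
      exact ⟨⟨⟨m, hm⟩, hpf⟩, Subtype.ext (by dsimp only; rw [← e]; group)⟩
  · obtain ⟨c, hc, hcW, e⟩ := std_orbit ((hfix g).1 hg) (by rw [hrank, hr])
    obtain ⟨c', hc', hcW', e'⟩ := std_orbit ((hfix g').1 hg') (by rw [hrank, hr'])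
    refine ⟨φ * (c' * c⁻¹) * φ⁻¹, Subgroup.Normal.conj_mem inferInstance _ (mul_mem hc' (inv_mem hc)) φ,
      fun w hw => ?_, ?_⟩
    · rw [qAut_mul_apply, qAut_mul_apply, qAut_mul_apply, hφ]
      refine hcW' _ ?_
      have hmem := (mem_pre w).2 hw
      have hmap : W0.map c.1.toLinearMap = W0 := by
        refine Submodule.eq_of_le_of_finrank_eq ?_ (LinearEquiv.finrank_map_eq c.1 W0)
        rintro _ ⟨x, hx, rfl⟩
        exact hcW x hx
      obtain ⟨x, hx, ex⟩ := hmap.ge hmem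
      rw [← ex]
      show c.1.symm (c.1 x) ∈ W0
      rwa [LinearEquiv.symm_apply_apply]
    · have a1 : g * (φ * c) = φ * c * g0 := by
        calc g * (φ * c) = φ * (φ⁻¹ * g * φ * c) := by group
          _ = φ * c * g0 := by rw [e, mul_assoc]
      have a2 : g' * (φ * c') = φ * c' * g0 := by
        calc g' * (φ * c') = φ * (φ⁻¹ * g' * φ * c') := by group
          _ = φ * c' * g0 := by rw [e', mul_assoc]
      calc φ * (c' * c⁻¹) * φ⁻¹ * g = φ * (c' * c⁻¹) * φ⁻¹ * (g * (φ * c)) * (φ * c)⁻¹ := by group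
        _ = φ * (c' * c⁻¹) * φ⁻¹ * (φ * c * g0) * (φ * c)⁻¹ := by rw [a1]
        _ = φ * c' * g0 * (φ * c)⁻¹ := by group
        _ = g' * (φ * c') * (φ * c)⁻¹ := by rw [a2]
        _ = g' * (φ * (c' * c⁻¹) * φ⁻¹) := by group
  · obtain ⟨c, hc, hcW, e⟩ := std_orbit ((hfix g).1 hg) (by rw [hrank, hr])
    have hk0 : ∀ k < 8, (wA kW).1 (vec (2 ^ k)) = vec (wB kW (2 ^ k)) ∧ wB kW (2 ^ k) < 256 := fun k hk => by
      have h := wA_vec kW_ok (x := 2 ^ k) (lt_of_lt_of_le (Nat.pow_lt_pow_right one_lt_two hk) (by norm_num))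
      exact ⟨h.2, h.1⟩
    have hk5 : wA kW ^ 5 = 1 := ext_vec fun k hk => by
      obtain ⟨e1, l1⟩ := hk0 k hk
      obtain ⟨l2, e2⟩ := wA_vec kW_ok l1
      obtain ⟨l3, e3⟩ := wA_vec kW_ok l2
      obtain ⟨l4, e4⟩ := wA_vec kW_ok l3
      obtain ⟨-, e5⟩ := wA_vec kW_ok l4
      simp only [pow_succ, pow_zero, one_mul, qAut_mul_apply]
      rw [e1, e2, e3, e4, e5, (check_five k hk).1]
      rfl
    have hkg : wA kW * g0 = g0 * wA kW := ext_vec fun k hk => by
      obtain ⟨e1, l1⟩ := hk0 k hk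
      obtain ⟨b1, b2⟩ := wA_vec (gW_ok (show 33 < 64 by norm_num))
        (x := 2 ^ k) (lt_of_lt_of_le (Nat.pow_lt_pow_right one_lt_two hk) (by norm_num))
      rw [qAut_mul_apply, qAut_mul_apply, g0, b2, (wA_vec kW_ok b1).2, e1,
        (wA_vec (gW_ok (show 33 < 64 by norm_num)) l1).2, (check_five k hk).2]
    have hmap : ∀ w, c.1 w ∈ W0 ↔ w ∈ W0 := fun w => by
      have hm : W0.map c.1.toLinearMap = W0 := by
        refine Submodule.eq_of_le_of_finrank_eq ?_ (LinearEquiv.finrank_map_eq c.1 W0)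
        rintro _ ⟨x, hx, rfl⟩
        exact hcW x hx
      conv_lhs => rw [← hm]
      exact ⟨fun ⟨x, hx, e'⟩ => c.1.injective e' ▸ hx, fun h => ⟨w, h, rfl⟩⟩
    have hkW : ∀ w ∈ W0, (wA kW).1 w ∈ W0 := by
      intro w hw
      obtain ⟨x, hx, rfl⟩ := vec_surj w
      obtain ⟨h1, h2⟩ := wA_vec kW_ok hx
      rw [h2, mem_W0 h1]
      exact check_kW_W x ((mem_W0 hx).1 hw)
    set ψ := φ * c with hψ
    have hψW : ∀ w, ψ.1 w ∈ W ↔ w ∈ W0 := fun w => by rw [hψ, qAut_mul_apply, hφ, hmap]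
    have a1 : g * ψ = ψ * g0 := by
      calc g * (φ * c) = φ * (φ⁻¹ * g * φ * c) := by group
        _ = φ * c * g0 := by rw [e, mul_assoc]
    have hψi : ∀ w ∈ W, (ψ⁻¹).1 w ∈ W0 := fun w hw =>
      (hψW _).1 (by show ψ.1 (ψ.1.symm w) ∈ W; rwa [LinearEquiv.apply_symm_apply])
    refine ⟨ψ * wA kW * ψ⁻¹, Subgroup.Normal.conj_mem inferInstance _ (wA_mem kW) ψ,
      by rw [conj_pow, hk5, mul_one, mul_inv_cancel], fun w hw => ?_, ?_, fun w hw hfixw => ?_⟩
    · rw [qAut_mul_apply, qAut_mul_apply, hψW]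
      exact hkW _ (hψi w hw)
    · have a2 : ψ⁻¹ * g = g0 * ψ⁻¹ := by
        calc ψ⁻¹ * g = ψ⁻¹ * (g * ψ) * ψ⁻¹ := by group
          _ = g0 * ψ⁻¹ := by rw [a1]; group
      calc ψ * wA kW * ψ⁻¹ * g = ψ * (wA kW * g0) * ψ⁻¹ := by rw [mul_assoc, a2]; group
        _ = g * (ψ * wA kW * ψ⁻¹) := by rw [hkg, ← mul_assoc, ← a1]; group
    · have hx0 := hψi w hw
      obtain ⟨x, hx, ex⟩ := vec_surj ((ψ⁻¹).1 w)
      rw [← ex] at hx0
      obtain ⟨h1, h2⟩ := wA_vec kW_ok hx
      have h3 := congrArg (ψ⁻¹).1 hfixw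
      rw [qAut_mul_apply, qAut_mul_apply, show ∀ v, (ψ⁻¹).1 (ψ.1 v) = v from fun v => ψ.1.symm_apply_apply v,
        ← ex, h2, vec_eq_iff h1 hx] at h3
      by_contra hw0
      have hx1 : x ≠ 0 := fun hx1 => hw0 (by
        rw [hx1, vec_zero] at ex
        have := congrArg ψ.1 ex
        rw [map_zero] at this
        rw [this]
        exact (ψ.1.apply_symm_apply w).symm)
      exact check_kW_fix x ((mem_W0 hx).1 hx0) hx1 h3

end CfsgLib.CoOneWeak
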