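import Mathlib
import Cfsg.Agent.Lib.CoOneRec.Weak.Basic
import Cfsg.Agent.Lib.CoOneRec.Weak.Cap
import Cfsg.Agent.Lib.CoOneRec.Weak.Frames

/-!
The two involutions move equally much; the intersection in each case.
-/

set_option autoImplicit false
set_option linter.style.haveILetI false
set_option linter.unusedSimpArgs false
set_option linter.unusedSectionVars false

namespace CfsgLib.CoOneWeak

open Subgroup CfsgLib.Classical CfsgLib.CoType

variable {G : Type*} [Group G] [Finite G]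

theorem five_trivial {U : Sub} (f : qAut qm) (hf : f ^ 5 = 1) (hU : ∀ v ∈ U, f.1 v ∈ U)
    (hfree : ∀ v ∈ U, f.1 v = v → v = 0) : Module.finrank (ZMod 2) U = 0 ∨ 4 ≤ Module.finrank (ZMod 2) U := by
  classical
  haveI : Fintype U := Fintype.ofFinite _
  haveI : Fact (Nat.Prime 5) := ⟨by norm_num⟩
  let F : Function.End U := fun v => ⟨f.1 v.1, hU _ v.2⟩
  have hF : ∀ n v, ((F ^ n) v : V8) = (f ^ n).1 v.1 := by
    intro n
    induction n with
    | zero => exact fun v => rfl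
    | succ n ih =>
      intro v
      rw [pow_succ, pow_succ, qAut_mul_apply]
      exact ih (F v)
  have h5 : F ^ 5 ^ 1 = 1 := funext fun v => Subtype.ext (by rw [hF, pow_one, hf]; rfl)
  have h := Equiv.Perm.card_fixedPoints_modEq h5
  have h1 : Fintype.card F.fixedPoints = 1 := by
    refine Fintype.card_eq_one_iff.2 ⟨⟨0, Subtype.ext (map_zero f.1)⟩, fun ⟨v, hv⟩ => Subtype.ext ?_⟩
    exact Subtype.ext (hfree _ v.2 (congrArg Subtype.val hv))
  rw [h1, ← Nat.card_eq_fintype_card, card_sub] at h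
  have h4 := U.finrank_le
  rw [finrank8] at h4
  have : ∀ n ≤ 8, 2 ^ n ≡ 1 [MOD 5] → n = 0 ∨ 4 ≤ n := by unfold Nat.ModEq; decide
  exact this _ h4 h

namespace WPair

variable {z u : G} {Q Q' : Subgroup G} {π π' : G → V8} {ρ ρ' : G → qAut qm}
  (P : WPair z u Q Q' π π' ρ ρ')

include P

/-- The conjugates of `u` in its coset lift to the moved space. -/
theorem coset_Kg {v : G} (hv : IsConj z v) (hvC : v ∈ centralizer ({z} : Set G)) (hρ : ρ v = ρ u) :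
    v * u⁻¹ ∈ Q ∧ π (v * u⁻¹) ∈ Kg (ρ u) := by
  have he : v * u⁻¹ ∈ Q := (P.S.rho_ker _ (mul_mem hvC (inv_mem P.uC))).1 (by
    rw [P.S.rho_mul _ hvC _ (inv_mem P.uC), P.S.rho_inv P.uC, hρ, mul_inv_cancel])
  have hv2 : v * v = 1 := by
    obtain ⟨h, rfl⟩ := isConj_iff.1 hv
    calc h * z * h⁻¹ * (h * z * h⁻¹) = h * (z * z) * h⁻¹ := by group
      _ = 1 := by rw [P.S.z2]; group
  refine ⟨he, mem_Kg.2 ?_⟩
  have h1 : u * (v * u⁻¹) * u⁻¹ = (v * u⁻¹)⁻¹ := by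
    rw [mul_inv_rev, inv_inv, inv_eq_of_mul_eq_one_right hv2, P.u_inv]
    simp only [mul_assoc, P.S'.z2, mul_one]
  have h2 := P.S.rho_pi u P.uC _ he
  rw [h1, P.S.pi_inv he] at h2
  rw [Mv_apply, ← h2, add_self8]

theorem r_card : Nat.card (bs z Q') = 2 * 2 ^ Module.finrank (ZMod 2) (img π' (bs z Q')) := by
  rw [P.symm.card_bs, card_sub]

/-- With trivial intersection the rank is four. -/
theorem two_D_ne (h2 : qRank qm (ρ u) = 2) : ∃ d, d ∈ Q ∧ d ∈ Q' ∧ d ≠ 1 := by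
  by_contra hn
  push Not at hn
  have hK := finrank_Kg P.g_invol
  have hB := P.finrank_bbar
  obtain ⟨U, hU, hU5⟩ := exists_sub (U := img π (bs u Q)) (k := 5) (by omega)
  have hc := cap hU5 P.rImg P.rImg_ev fun y hy v hv => P.rImg_fix hn hy (hU hv)
  rw [P.card_rImg hn, P.r_card] at hc
  have hK' := finrank_Kg P.symm.g_invol
  have hB' := P.symm.finrank_bbar
  have h4 := (rank_le_four P.symm.g_invol).1
  have : 2 ^ 3 ≤ 2 ^ Module.finrank (ZMod 2) (img π' (bs z Q')) := Nat.pow_le_pow_right two_pos (by omega)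
  omega

section Four

variable (h4 : qRank qm (ρ u) = 4)

include h4

theorem Kg_four : Kg (ρ u) = Wg (ρ u) := (Wg_eq_Kg P.g_invol h4).symm

theorem mem_bbar_four {v : V8} : v ∈ img π (bs u Q) ↔ v ∈ Wg (ρ u) ∧ qm v = 0 := by
  constructor
  · intro hv
    have hW : v ∈ Wg (ρ u) := P.Kg_four h4 ▸ P.bbar_le hv
    refine ⟨hW, ?_⟩
    obtain ⟨w, rfl⟩ := hW
    obtain ⟨x, hx, rfl⟩ := P.S.pi_surj w
    exact (P.cm_bs_iff hx).1 (P.mem_bs_of_pi (P.cm_mem hx) (by rwa [P.pi_cm hx]))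
  · rintro ⟨⟨w, rfl⟩, hq⟩
    obtain ⟨x, hx, rfl⟩ := P.S.pi_surj w
    rw [← P.pi_cm hx]
    exact P.pi_bs ((P.cm_bs_iff hx).2 hq)

theorem ts_bbar_four : TS (img π (bs u Q)) := fun _ hv => ((P.mem_bbar_four h4).1 hv).2

theorem bs_elem {a b : G} (ha : a ∈ bs u Q) (hb : b ∈ bs u Q) : a * a = 1 ∧ a * b = b * a := by
  refine ⟨?_, (P.S.commute_iff (mem_bs.1 ha).1 (mem_bs.1 hb).1).2 ?_⟩
  · rw [P.S.sq a (mem_bs.1 ha).1, P.ts_bbar_four h4 _ (P.pi_bs ha), zb_zero]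
  · exact pb_perp (P.pi_bs ha) ((P.ts_bbar_four h4).isot (P.pi_bs hb))

theorem finrank_bbar_four : 3 ≤ Module.finrank (ZMod 2) (img π (bs u Q)) := by
  have := P.finrank_bbar
  have := finrank_Kg P.g_invol
  omega

theorem finrank_Wg_four : Module.finrank (ZMod 2) (Wg (ρ u)) = 4 := by rw [← qRank_eq, h4]

theorem bbar_four (h0 : F0 z u Q) : img π (bs u Q) = Wg (ρ u) := by rw [P.bbar_F0 h0, P.Kg_four h4]

theorem perp_Wg_four : perp (Wg (ρ u)) = Wg (ρ u) := by rw [← Kg_eq P.g_invol, P.Kg_four h4]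

theorem fix_g : Fix (Wg (ρ u)) (ρ u) := fun _ hw => Mv_eq_zero.1 (Wg_le_Kg P.g_invol hw)

/-- A conjugate in the coset of `u` is one of two kinds. -/
theorem coset_four {v : G} (hv : IsConj z v) (hvC : v ∈ centralizer ({z} : Set G)) (hρ : ρ v = ρ u) :
    ∃ x ∈ Q, ∃ c : ZMod 2, v = zb z c * (x * u * x⁻¹) := by
  obtain ⟨he, hK⟩ := P.coset_Kg hv hvC hρ
  rw [P.Kg_four h4] at hK
  obtain ⟨w, hw⟩ := hK
  obtain ⟨x, hx, rfl⟩ := P.S.pi_surj w
  rcases P.S.pi_eq (P.cm_mem hx) he ((P.pi_cm hx).trans hw) with e | e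
  · exact ⟨x, hx, 0, by rw [zb_zero, one_mul, cm_conj, ← e, inv_mul_cancel_right]⟩
  · exact ⟨x, hx, 1, by rw [zb_one, cm_conj, ← mul_assoc, ← e, inv_mul_cancel_right]⟩

/-- An element of odd order modulo `Q` commuting with the action of `u` lifts to the centralizer of `u`. -/
theorem lift_odd (h0 : F0 z u Q) {k : G} (hk : k ∈ centralizer ({z} : Set G)) (hkg : ρ k * ρ u = ρ u * ρ k)
    {n : ℕ} (hn : Odd n) (hkn : ρ k ^ n = 1) :
    ∃ x ∈ Q, x * k * u = u * (x * k) := by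
  have hvC : k * u * k⁻¹ ∈ centralizer ({z} : Set G) := mul_mem (mul_mem hk P.uC) (inv_mem hk)
  have hρ : ρ (k * u * k⁻¹) = ρ u := by
    rw [P.S.rho_mul _ (mul_mem hk P.uC) _ (inv_mem hk), P.S.rho_mul _ hk _ P.uC, P.S.rho_inv hk, hkg,
      mul_inv_cancel_right]
  obtain ⟨x, hx, c, e⟩ := P.coset_four h4 (P.conj.trans (isConj_iff.2 ⟨k, rfl⟩)) hvC hρ
  rcases two_cases c with rfl | rfl
  · rw [zb_zero, one_mul] at e
    refine ⟨x⁻¹, inv_mem hx, ?_⟩
    calc x⁻¹ * k * u = x⁻¹ * (k * u * k⁻¹) * k := by group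
      _ = u * (x⁻¹ * k) := by rw [e]; group
  · exfalso
    have hkz : k * z = z * k := mem_centralizer_singleton_iff.1 hk
    have step : ∀ m : ℕ, ∃ y ∈ Q, k ^ m * u * (k ^ m)⁻¹ = zb z (m : ZMod 2) * (y * u * y⁻¹) := by
      intro m
      induction m with
      | zero => exact ⟨1, one_mem _, by simp [zb_zero]⟩
      | succ m ih =>
        obtain ⟨y, hy, ey⟩ := ih
        refine ⟨k * y * k⁻¹ * x, mul_mem (P.S.conj_mem hk hy) hx, ?_⟩
        have hzc : k * zb z (m : ZMod 2) = zb z (m : ZMod 2) * k := by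
          rcases two_cases (m : ZMod 2) with h | h <;> rw [h]
          · simp [zb_zero]
          · rw [zb_one, hkz]
        calc k ^ (m + 1) * u * (k ^ (m + 1))⁻¹ = k * (k ^ m * u * (k ^ m)⁻¹) * k⁻¹ := by
              rw [pow_succ']; group
          _ = k * zb z (m : ZMod 2) * (y * u * y⁻¹) * k⁻¹ := by rw [ey]; group
          _ = zb z (m : ZMod 2) * (k * y * k⁻¹ * (k * u * k⁻¹) * (k * y * k⁻¹)⁻¹) := by rw [hzc]; group
          _ = zb z (m : ZMod 2) * (k * y * k⁻¹ * z * (x * u * x⁻¹) * (k * y * k⁻¹)⁻¹) := by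
              rw [e, zb_one]; group
          _ = zb z (m : ZMod 2) * (z * (k * y * k⁻¹) * (x * u * x⁻¹) * (k * y * k⁻¹)⁻¹) := by
              rw [P.S.z_comm (P.S.conj_mem hk hy)]
          _ = zb z (m : ZMod 2) * zb z 1 * (k * y * k⁻¹ * x * u * (k * y * k⁻¹ * x)⁻¹) := by rw [zb_one]; group
          _ = zb z ((m + 1 : ℕ) : ZMod 2) * (k * y * k⁻¹ * x * u * (k * y * k⁻¹ * x)⁻¹) := by
              rw [zb_mul P.S.z2, Nat.cast_add, Nat.cast_one]
    obtain ⟨y, hy, ey⟩ := step n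
    rw [ZMod.natCast_eq_one_iff_odd.2 hn, zb_one] at ey
    have hq : k ^ n ∈ Q := (P.S.rho_ker _ (pow_mem hk n)).1 (by rw [rho_pow P.S hk, hkn])
    refine h0 (y⁻¹ * k ^ n) (mul_mem (inv_mem hy) hq) ?_
    calc cm u (y⁻¹ * k ^ n) = y⁻¹ * (k ^ n * u * (k ^ n)⁻¹) * y * u⁻¹ := by rw [cm]; group
      _ = y⁻¹ * z * y * (u * u⁻¹) := by rw [ey]; group
      _ = z := by rw [mul_assoc y⁻¹, ← P.S.z_comm hy, inv_mul_cancel_left, mul_inv_cancel, mul_one]

theorem exists_five (h0 : F0 z u Q) : ∃ k ∈ centralizer ({z} : Set G), k * u = u * k ∧ ρ k ^ 5 = 1 ∧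
    (∀ w ∈ Wg (ρ u), (ρ k).1 w ∈ Wg (ρ u)) ∧ ∀ w ∈ Wg (ρ u), (ρ k).1 w = w → w = 0 := by
  obtain ⟨-, -, -, hk⟩ := four_facts (P.ts_F0 h0) (P.finrank_Wg_four h4)
  obtain ⟨κ, hκ, hκ5, hκW, hκg, hfree⟩ := hk (ρ u) (P.fix_g h4) h4
  obtain ⟨c, hc, rfl⟩ := (P.S.rho_range κ).1 hκ
  obtain ⟨x, hx, hxc⟩ := P.lift_odd h4 h0 hc hκg (n := 5) (by decide) hκ5
  refine ⟨x * c, mul_mem (P.S.le hx) hc, hxc, ?_⟩
  rw [P.S.rho_mul x (P.S.le hx) c hc, P.S.rho_Q hx, one_mul]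
  exact ⟨hκ5, hκW, hfree⟩

/-- Rank four: the intersection is trivial. -/
theorem d_one_four {d : G} (hd : d ∈ Q) (hd' : d ∈ Q') : d = 1 := by
  by_cases h0 : F0 z u Q
  swap
  · refine P.dbar_Wg h0 hd hd' ?_
    exact ((P.mem_bbar_four h4).1 (P.pi_bs (P.d_bs hd hd'))).1
  obtain ⟨k, hk, hku, hk5, -, hfree⟩ := P.exists_five h4 h0
  have hDW : img π (Q ⊓ Q') ≤ Wg (ρ u) := P.bbar_four h4 h0 ▸ P.dbar_le
  have hinv : ∀ v ∈ img π (Q ⊓ Q'), (ρ k).1 v ∈ img π (Q ⊓ Q') := fun v hv => by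
    obtain ⟨e, he, he', rfl⟩ := P.mem_dbar.1 hv
    rw [← P.S.rho_pi k hk e he]
    exact P.mem_dbar.2 ⟨_, P.S.conj_mem hk he, P.S'.conj_mem (mem_centralizer_singleton_iff.2 hku) he', rfl⟩
  rcases five_trivial (ρ k) hk5 hinv (fun v hv => hfree v (hDW hv)) with h | h
  · refine P.d_one hd hd' ?_
    rw [Submodule.finrank_eq_zero] at h
    have := P.mem_dbar.2 ⟨d, hd, hd', rfl⟩
    rwa [h, Submodule.mem_bot] at this
  -- the whole space
  exfalso
  have hall : img π (Q ⊓ Q') = Wg (ρ u) :=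
    Submodule.eq_of_le_of_finrank_le hDW (by rw [P.finrank_Wg_four h4]; exact h)
  obtain ⟨v, hv, hv0⟩ := Submodule.exists_mem_ne_zero_of_ne_bot (p := Wg (ρ u)) (fun hb => by
    have := P.finrank_Wg_four h4
    rw [hb, finrank_bot] at this; omega)
  obtain ⟨x', hx'⟩ := hv
  obtain ⟨x, hx, rfl⟩ := P.S.pi_surj x'
  have hinf : 2 ≤ Module.finrank (ZMod 2) ↥(Wg (ρ u) ⊓ perp (Submodule.span (ZMod 2) {π x})) := by
    have h1 := Submodule.finrank_sup_add_finrank_inf_eq (Wg (ρ u)) (perp (Submodule.span (ZMod 2) {π x}))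
    have h2 := finrank_perp (Submodule.span (ZMod 2) {π x})
    have h3 := (Wg (ρ u) ⊔ perp (Submodule.span (ZMod 2) {π x})).finrank_le
    have h5 : Module.finrank (ZMod 2) (Submodule.span (ZMod 2) {π x}) ≤ 1 := by
      have := finrank_span_le_card (R := ZMod 2) ({π x} : Set V8)
      simpa using this
    rw [finrank8] at h3
    rw [P.finrank_Wg_four h4] at h1
    omega
  obtain ⟨w, hw, hwx, hne⟩ : ∃ w ∈ Wg (ρ u), pb (π x) w = 0 ∧ w ≠ 0 ∧ w ≠ v := by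
    by_contra hn
    push Not at hn
    have : Wg (ρ u) ⊓ perp (Submodule.span (ZMod 2) {π x}) ≤ Submodule.span (ZMod 2) {v} := by
      rintro w ⟨hw1, hw2⟩
      by_cases hw0 : w = 0
      · rw [hw0]; exact zero_mem _
      rw [hn w hw1 (pb_perp (Submodule.mem_span_singleton_self _) hw2) hw0]
      exact Submodule.mem_span_singleton_self _
    have := Submodule.finrank_mono this
    rw [finrank_span_singleton hv0] at this
    omega
  obtain ⟨y', hy'⟩ := hw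
  obtain ⟨y, hy, rfl⟩ := P.S.pi_surj y'
  have lift : ∀ a ∈ Q, Mv (ρ u) (π a) ≠ 0 →
      ∃ e, e ∈ Q ∧ e ∈ Q' ∧ π e = Mv (ρ u) (π a) ∧ cm u a = z * e := by
    intro a ha ha0
    obtain ⟨e, he, he', hee⟩ := P.mem_dbar.1 (show Mv (ρ u) (π a) ∈ img π (Q ⊓ Q') by rw [hall]; exact ⟨_, rfl⟩)
    refine ⟨e, he, he', hee, ((P.S.pi_eq he (P.cm_mem ha) (hee.trans (P.pi_cm ha).symm)).resolve_left fun h => ?_)⟩
    refine ha0 ?_
    rw [← P.pi_cm ha, P.cm_weak (h ▸ he'), P.S.pi_one]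
  obtain ⟨ev, hev, hev', hπv, hcv⟩ := lift x hx (by rw [hx']; exact hv0)
  obtain ⟨ew, hew, hew', hπw, hcw⟩ := lift y hy (by rw [hy']; exact hne.1)
  have hxy : cm u (x * y) = ew * ev := by
    rw [cm_mul, hcw, hcv, show x * (z * ew) * x⁻¹ = x * z * ew * x⁻¹ by group, P.S.z_comm hx,
      show z * x * ew * x⁻¹ = z * (x * ew * x⁻¹) by group,
      pi_conj_comm P.S hx hew (by rw [hπw, hy']; exact hwx)]
    calc z * ew * (z * ev) = z * (ew * z) * ev := by group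
      _ = ew * ev := by rw [P.S.z_comm hew, ← mul_assoc, P.S.z2, one_mul]
  have h1 := P.cm_weak (x := x * y) (hxy ▸ mul_mem hew' hev')
  rw [hxy] at h1
  have h2 := congrArg π h1
  rw [P.S.pi_mul _ hew _ hev, hπw, hπv, hx', hy', P.S.pi_one] at h2
  exact hne.2 (eq8 h2)

end Four

/-- Both involutions have the same rank. -/
theorem four_symm (h4 : qRank qm (ρ u) = 4) : qRank qm (ρ' z) = 4 := by
  rcases P.symm.rank_cases with h | h
  · obtain ⟨d, hd, hd', hne⟩ := P.symm.two_D_ne h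
    exact absurd (P.d_one_four h4 hd' hd) hne
  · exact h

theorem two_symm (h2 : qRank qm (ρ u) = 2) : qRank qm (ρ' z) = 2 := by
  rcases P.symm.rank_cases with h | h
  · exact h
  · have := P.symm.four_symm h; omega

section Two

variable (h2 : qRank qm (ρ u) = 2)

include h2

theorem finrank_Wg_two : Module.finrank (ZMod 2) (Wg (ρ u)) = 2 := by rw [← qRank_eq, h2]

theorem ts_two : TS (Wg (ρ u)) := by
  by_contra hn
  obtain ⟨d, hd, hd', hd1⟩ := P.two_D_ne h2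
  have h0 : ¬ F0 z u Q := fun h0 => hn (P.ts_F0 h0)
  unfold TS at hn
  push Not at hn
  obtain ⟨w, hw, hq⟩ := hn
  refine hd1 (P.dbar_Wg h0 hd hd' ?_)
  have hwB : w ∉ img π (bs u Q) := by
    intro hwB
    obtain ⟨w', hw'⟩ := hw
    obtain ⟨x, hx, rfl⟩ := P.S.pi_surj w'
    rw [← hw'] at hq hwB
    exact hq ((P.cm_bs_iff hx).1 (P.mem_bs_of_pi (P.cm_mem hx) (by rwa [P.pi_cm hx])))
  have hle : img π (bs u Q) ⊔ Submodule.span (ZMod 2) {w} ≤ Kg (ρ u) :=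
    sup_le P.bbar_le (Submodule.span_le.2 (Set.singleton_subset_iff.2 (Wg_le_Kg P.g_invol hw)))
  have hlt : img π (bs u Q) < img π (bs u Q) ⊔ Submodule.span (ZMod 2) {w} :=
    lt_of_le_of_ne le_sup_left fun e => hwB (e ▸ Submodule.mem_sup_right (Submodule.mem_span_singleton_self w))
  have heq : img π (bs u Q) ⊔ Submodule.span (ZMod 2) {w} = Kg (ρ u) := by
    refine Submodule.eq_of_le_of_finrank_le hle ?_
    have := Submodule.finrank_lt_finrank_of_lt hlt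
    have := P.finrank_bbar
    omega
  rw [Wg_eq P.g_invol]
  refine mem_perp.2 fun v hv => ?_
  rw [← heq, Submodule.mem_sup] at hv
  obtain ⟨b, hb, c, hc, rfl⟩ := hv
  obtain ⟨r, rfl⟩ := Submodule.mem_span_singleton.1 hc
  have hdB := P.pi_bs (P.d_bs hd hd')
  have e1 : pb b (π d) = 0 := pb_perp hb (P.dbar_perp (P.mem_dbar.2 ⟨d, hd, hd', rfl⟩))
  have hdK := P.bbar_le hdB
  rw [Kg_eq P.g_invol] at hdK
  rw [pb_add_left, pb_smul_left, e1, pb_perp hw hdK, mul_zero, add_zero]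

theorem perp_bbar_two (h0 : ¬ F0 z u Q) : Wg (ρ u) ≤ perp (img π (bs u Q)) ∧
    Module.finrank (ZMod 2) ↥(Wg (ρ u) ⊔ img π (Q ⊓ Q')) ≤ 3 ∧
    Wg (ρ u) ⊓ img π (Q ⊓ Q') = ⊥ := by
  have h1 : Wg (ρ u) ≤ perp (img π (bs u Q)) := by
    rw [Wg_eq P.g_invol]; exact perp_anti P.bbar_le
  refine ⟨h1, ?_, ?_⟩
  · have := Submodule.finrank_mono (sup_le h1 P.dbar_perp)
    have := finrank_perp (img π (bs u Q))
    have := P.finrank_bbar
    have := finrank_Kg P.g_invol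
    omega
  · refine eq_bot_iff.2 fun v hv => ?_
    obtain ⟨d, hd, hd', rfl⟩ := P.mem_dbar.1 hv.2
    rw [P.dbar_Wg h0 hd hd' hv.1, P.S.pi_one]
    exact zero_mem _

theorem dbar_two : Module.finrank (ZMod 2) (img π (Q ⊓ Q')) = 1 ∨
    (F0 z u Q ∧ img π (Q ⊓ Q') = Wg (ρ u)) := by
  have hpos : Module.finrank (ZMod 2) (img π (Q ⊓ Q')) ≠ 0 := fun h => by
    obtain ⟨d, hd, hd', hd1⟩ := P.two_D_ne h2
    rw [Submodule.finrank_eq_zero] at h
    have := P.mem_dbar.2 ⟨d, hd, hd', rfl⟩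
    rw [h, Submodule.mem_bot] at this
    exact hd1 (P.d_one hd hd' this)
  have hW := P.finrank_Wg_two h2
  by_cases h0 : F0 z u Q
  · have hle : img π (Q ⊓ Q') ≤ Wg (ρ u) := by
      rw [Wg_eq P.g_invol, ← P.bbar_F0 h0]; exact P.dbar_perp
    have := Submodule.finrank_mono hle
    by_cases h1 : Module.finrank (ZMod 2) (img π (Q ⊓ Q')) = 1
    · exact .inl h1
    · exact .inr ⟨h0, Submodule.eq_of_le_of_finrank_eq hle (by omega)⟩
  · left
    obtain ⟨-, h3, h4⟩ := P.perp_bbar_two h2 h0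
    have := Submodule.finrank_sup_add_finrank_inf_eq (Wg (ρ u)) (img π (Q ⊓ Q'))
    rw [h4, finrank_bot] at this
    omega

end Two

end WPair

end CfsgLib.CoOneWeak
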