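import Mathlib
import Cfsg.Agent.Lib.CoOneRec.Weak.Cases

/-!
No configuration has rank two.
-/

set_option autoImplicit false
set_option linter.style.haveILetI false
set_option linter.unusedSimpArgs false
set_option linter.unusedSectionVars false

namespace CfsgLib.CoOneWeak

open Subgroup CfsgLib.Classical CfsgLib.CoType

variable {G : Type*} [Group G] [Finite G]

namespace WPair

variable {z u : G} {Q Q' : Subgroup G} {π π' : G → V8} {ρ ρ' : G → qAut qm}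
  (P : WPair z u Q Q' π π' ρ ρ')

include P

theorem wg_le_bbar (hT : TS (Wg (ρ u))) : Wg (ρ u) ≤ img π (bs u Q) := by
  rintro _ ⟨v, rfl⟩
  obtain ⟨x, hx, rfl⟩ := P.S.pi_surj v
  rw [← P.pi_cm hx]
  exact P.pi_bs ((P.cm_bs_iff hx).2 (hT _ ⟨_, rfl⟩))

/-- The intersection is no group of order two. -/
theorem one_false (h2 : qRank qm (ρ u) = 2) (h1 : Module.finrank (ZMod 2) (img π (Q ⊓ Q')) = 1) : False := by
  have Ps := P.symm
  have h2' := P.two_symm h2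
  have hT' := Ps.ts_two h2'
  have h1' : Module.finrank (ZMod 2) (img π' (Q' ⊓ Q)) = 1 := P.finrank_dbar ▸ h1
  have hK := finrank_Kg P.g_invol
  have hB := P.finrank_bbar
  obtain ⟨v, hv, hvq⟩ := exists_nonsing (U := img π (bs u Q)) (by omega)
  obtain ⟨b, hb, rfl⟩ := (mem_img P.S P.bs_le).1 hv
  obtain ⟨hbC, hbz⟩ := Ps.rs_mem hb
  set y := ρ' b with hy
  have hyy : y * y = ρ' z := by
    rw [hy, ← Ps.S.rho_mul b hbC b hbC, P.S.sq b (mem_bs.1 hb).1, hvq, zb_one]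
  set U := img π' (bs z Q') with hU
  set D := img π' (Q' ⊓ Q) with hD
  obtain ⟨d, hdD, hd0⟩ := Submodule.exists_mem_ne_zero_of_ne_bot (p := D)
    (fun e => by rw [e, finrank_bot] at h1'; omega)
  have hDd : D = Submodule.span (ZMod 2) {d} :=
    (Submodule.eq_of_le_of_finrank_le (Submodule.span_le.2 (Set.singleton_subset_iff.2 hdD))
      (by rw [finrank_span_singleton hd0, h1'])).symm
  have yd : y.1 d = d := Mv_eq_zero.1 (Ps.mv_dbar hb hdD)
  have hstep : ∀ v, pb d v = 0 → Mv y v ∈ perp U := by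
    intro v hv
    refine mem_perp.2 fun w hw => ?_
    have e0 : pb d (y.1 v) = 0 := by
      have := pb_map y d v
      rw [yd] at this; rw [this, hv]
    have e1 : pb (Mv y w) (y.1 v) = 0 := by
      have hm := Ps.mv_bbar hb hw
      rw [← hD, hDd, Submodule.mem_span_singleton] at hm
      obtain ⟨r, hr⟩ := hm
      rw [← hr, pb_smul_left, e0, mul_zero]
    have e2 := pb_map y w v
    rw [Mv_apply, pb_add_left, e2] at e1
    rw [Mv_apply, pb_add_right, ← e1, add_comm]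
  have hWU : Wg (ρ' z) ≤ U := Ps.wg_le_bbar hT'
  have hDU : D ≤ U := Ps.dbar_le
  have hperpU : perp U ≤ U := by
    by_cases h0 : F0 u z Q'
    · rw [hU, Ps.bbar_F0 h0, ← Wg_eq Ps.g_invol]; exact Wg_le_Kg Ps.g_invol
    · obtain ⟨a1, -, a3⟩ := Ps.perp_bbar_two h2' h0
      have a4 := Submodule.finrank_sup_add_finrank_inf_eq (Wg (ρ' z)) D
      rw [a3, finrank_bot, Ps.finrank_Wg_two h2', h1'] at a4
      have hKp := finrank_Kg Ps.g_invol
      have hBp := Ps.finrank_bbar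
      have hperp := finrank_perp (img π' (bs z Q'))
      rw [← hU] at hperp hBp
      have e : Wg (ρ' z) ⊔ D = perp U :=
        Submodule.eq_of_le_of_finrank_le (sup_le a1 Ps.dbar_perp) (by omega)
      rw [← e]; exact sup_le hWU hDU
  obtain ⟨v0, hv0⟩ : ∃ v0, pb d v0 = 1 := by
    by_contra hn
    push Not at hn
    exact hd0 (pb_nondeg fun v => (two_cases _).resolve_right (hn v))
  set n := Mv y v0 with hn
  have hnd : pb d n = 0 := by
    have := pb_map y d v0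
    rw [yd] at this
    rw [hn, Mv_apply, pb_add_right, this, CharTwo.add_self_eq_zero]
  have hWspan : Wg (ρ' z) ≤ D ⊔ Submodule.span (ZMod 2) {Mv y n} := by
    rintro _ ⟨v, rfl⟩
    have e : v = (v + pb d v • v0) + pb d v • v0 := by rw [add_assoc, add_self8, add_zero]
    rw [e, map_add, map_smul, ← hyy, Mv_sq, Mv_sq]
    refine add_mem (Submodule.mem_sup_left ?_) (Submodule.mem_sup_right
      (Submodule.smul_mem _ _ (Submodule.mem_span_singleton_self _)))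
    exact Ps.mv_bbar hb (hperpU (hstep _ (by rw [pb_add_right, pb_smul_right, hv0, mul_one,
      CharTwo.add_self_eq_zero])))
  have hMn : Mv y n ∉ D := fun h => by
    have := Submodule.finrank_mono (hWspan.trans (sup_le le_rfl (Submodule.span_le.2 (Set.singleton_subset_iff.2 h))))
    rw [Ps.finrank_Wg_two h2', h1'] at this
    omega
  have heq : Wg (ρ' z) = D ⊔ Submodule.span (ZMod 2) {Mv y n} := by
    refine Submodule.eq_of_le_of_finrank_le hWspan ?_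
    have := Submodule.finrank_sup_add_finrank_inf_eq D (Submodule.span (ZMod 2) {Mv y n})
    have h3 : Module.finrank (ZMod 2) (Submodule.span (ZMod 2) {Mv y n}) ≤ 1 := by
      have := finrank_span_le_card (R := ZMod 2) ({Mv y n} : Set V8)
      simpa using this
    rw [Ps.finrank_Wg_two h2']
    omega
  have h0 : F0 u z Q' := by
    by_contra h0
    obtain ⟨-, -, a3⟩ := Ps.perp_bbar_two h2' h0
    have : d ∈ Wg (ρ' z) ⊓ D := ⟨heq ▸ Submodule.mem_sup_left hdD, hdD⟩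
    rw [a3, Submodule.mem_bot] at this
    exact hd0 this
  refine hMn (Ps.mv_bbar hb (v := n) ?_)
  have hnMn : pb n (Mv y n) = 0 := by
    rw [← qm_Mv]
    exact hT' _ (heq ▸ Submodule.mem_sup_right (Submodule.mem_span_singleton_self _))
  rw [Ps.bbar_F0 h0, Kg_eq Ps.g_invol, heq, mem_perp]
  intro w hw
  rw [Submodule.mem_sup] at hw
  obtain ⟨a, ha, c, hc, rfl⟩ := hw
  rw [hDd, Submodule.mem_span_singleton] at ha
  obtain ⟨r, rfl⟩ := ha
  obtain ⟨s, rfl⟩ := Submodule.mem_span_singleton.1 hc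
  rw [pb_add_left, pb_smul_left, pb_smul_left, hnd, pb_comm _ n, hnMn, mul_zero, mul_zero, add_zero]

theorem two_full (h2 : qRank qm (ρ u) = 2) : F0 z u Q ∧ img π (Q ⊓ Q') = Wg (ρ u) :=
  (P.dbar_two h2).resolve_left (P.one_false h2)

theorem mem_Wg_two (h2 : qRank qm (ρ u) = 2) {v : V8} (hv : v ∈ Wg (ρ u)) : ∃ d, d ∈ Q ∧ d ∈ Q' ∧ π d = v :=
  P.mem_dbar.1 (by rw [(P.two_full h2).2]; exact hv)

/-- The conjugates of `u` in its coset are its conjugates under `Q`. -/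
theorem coset_two (h2 : qRank qm (ρ u) = 2) {v : G} (hv : IsConj z v) (hvC : v ∈ centralizer ({z} : Set G))
    (hρ : ρ v = ρ u) : ∃ x ∈ Q, v = x * u * x⁻¹ := by
  obtain ⟨he, hK⟩ := P.coset_Kg hv hvC hρ
  set e := v * u⁻¹ with hedef
  have hvne : v ≠ z := fun h => P.g_ne (by rw [← hρ, h, P.S.rho_Q P.S.zQ])
  obtain ⟨Q'', π'', ρ'', P2⟩ := of_conj P.S P.weak hv hvne (mem_centralizer_singleton_iff.1 hvC)
  have h2v : qRank qm (ρ v) = 2 := by rw [hρ, h2]
  obtain ⟨hF, hDW⟩ := P.two_full h2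
  obtain ⟨hF2, hDW2⟩ := P2.two_full h2v
  have heB : e ∈ bs u Q := P.mem_bs_of_pi he (by rw [P.bbar_F0 hF]; exact hK)
  have heW : π e ∈ Wg (ρ u) := by
    rw [Wg_eq P.g_invol, ← P.bbar_F0 hF, mem_perp]
    intro w hw
    obtain ⟨x, hx, rfl⟩ := (mem_img P.S P.bs_le).1 hw
    have hxv : x ∈ bs v Q := P2.mem_bs_of_pi (mem_bs.1 hx).1 (by
      rw [P2.bbar_F0 hF2, hρ]; exact P.bbar_le hw)
    refine (P.S.commute_iff (mem_bs.1 hx).1 he).1 ?_
    have a1 := (mem_bs.1 hxv).2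
    have a2 : x * u⁻¹ = u⁻¹ * x := (Commute.inv_right (mem_bs.1 hx).2).eq
    rw [hedef, ← mul_assoc, a1, mul_assoc, a2, ← mul_assoc]
  obtain ⟨d, hd, hd', hde⟩ := P.mem_Wg_two h2 heW
  have hve : v = e * u := by rw [hedef, inv_mul_cancel_right]
  have key : ∀ d, d ∈ Q → d ∈ Q' → d ≠ 1 → π d ∈ Wg (ρ u) → ∃ x ∈ Q, cm u x = z * d := by
    intro d hd hd' hd1 hdW
    obtain ⟨w, hw⟩ := hdW
    obtain ⟨x, hx, rfl⟩ := P.S.pi_surj w
    refine ⟨x, hx, (P.S.pi_eq hd (P.cm_mem hx) ((P.pi_cm hx).trans hw).symm).resolve_left fun h => hd1 ?_⟩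
    rw [← h]; exact P.cm_weak (h ▸ hd')
  rcases P.S.pi_eq hd he hde with e1 | e1
  · refine ⟨1, one_mem _, ?_⟩
    have hvu := P.weak' v hv (by rw [hve, e1]; exact mul_mem hd' P.S'.zQ)
    rw [hvu]; group
  by_cases hd1 : d = 1
  · exfalso
    rw [hd1, mul_one] at e1
    -- `v = z u`
    obtain ⟨d', hd'D, hd'0⟩ := Submodule.exists_mem_ne_zero_of_ne_bot (p := img π (Q ⊓ Q')) (fun hb => by
      have := P.finrank_Wg_two h2
      rw [← hDW, hb, finrank_bot] at this; omega)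
    obtain ⟨d₁, hd₁, hd₁', rfl⟩ := P.mem_dbar.1 hd'D
    have hd₁1 : d₁ ≠ 1 := fun h => hd'0 (by rw [h, P.S.pi_one])
    have hW1 : π d₁ ∈ Wg (ρ u) := hDW ▸ hd'D
    obtain ⟨x, hx, hcx⟩ := key d₁ hd₁ hd₁' hd₁1 hW1
    have hcv : cm v x = z * d₁ := by
      rw [← hcx, cm, cm, hve, e1]
      calc x * (z * u) * x⁻¹ * (z * u)⁻¹ = x * z * u * x⁻¹ * u⁻¹ * z⁻¹ := by group
        _ = z * (x * u * x⁻¹ * u⁻¹) * z⁻¹ := by rw [P.S.z_comm hx]; group
        _ = x * u * x⁻¹ * u⁻¹ := by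
          rw [← cm, ← P.S.z_comm (P.cm_mem hx), mul_inv_cancel_right]
    obtain ⟨e', he', he'', hπe'⟩ := P2.mem_Wg_two h2v (v := π d₁) (by rw [hρ]; exact hW1)
    rcases P.S.pi_eq hd₁ he' hπe'.symm with h | h
    · rw [h] at he''
      have hw := P2.weak' (x * u * x⁻¹) (P.conj.trans (isConj_iff.2 ⟨x, rfl⟩)) (by
        rw [cm_conj, hcx, show z * d₁ * u = d₁ * v by rw [hve, e1, ← mul_assoc, P.S.z_comm hd₁]]
        exact mul_mem he'' P2.S'.zQ)
      rw [cm_conj, hcx, hve, e1] at hw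
      exact hd₁1 (mul_eq_left.1 (mul_right_cancel hw))
    · have := P2.cm_weak (x := x) (by rw [hcv, ← h]; exact he'')
      rw [hcv] at this
      refine hd'0 ?_
      rw [← P.S.pi_zmul hd₁, this, P.S.pi_one]
  · obtain ⟨x, hx, hcx⟩ := key d hd hd' hd1 (hde ▸ heW)
    exact ⟨x, hx, by rw [cm_conj, hcx, ← e1, ← hve]⟩

theorem lift_two (h2 : qRank qm (ρ u) = 2) {k : G} (hk : k ∈ centralizer ({z} : Set G))
    (hkg : ρ k * ρ u = ρ u * ρ k) : ∃ x ∈ Q, x * k * u = u * (x * k) := by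
  obtain ⟨x, hx, e⟩ := P.coset_two h2 (v := k * u * k⁻¹) (P.conj.trans (isConj_iff.2 ⟨k, rfl⟩))
    (mul_mem (mul_mem hk P.uC) (inv_mem hk)) (by
      rw [P.S.rho_mul _ (mul_mem hk P.uC) _ (inv_mem hk), P.S.rho_mul _ hk _ P.uC, P.S.rho_inv hk, hkg,
        mul_inv_cancel_right])
  refine ⟨x⁻¹, inv_mem hx, ?_⟩
  calc x⁻¹ * k * u = x⁻¹ * (k * u * k⁻¹) * k := by group
    _ = u * (x⁻¹ * k) := by rw [e]; group

theorem mv_Kg {r : G} (hr : r ∈ bs z Q') (h2 : qRank qm (ρ u) = 2) (v : V8) : Mv (ρ r) v ∈ Kg (ρ u) := by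
  have hc := P.comm_g (P.rs_mem hr).1 (P.rs_mem hr).2
  rw [mem_Kg]
  have : Mv (ρ u) (Mv (ρ r) v) = Mv (ρ r) (Mv (ρ u) v) := by
    rw [Mv_apply (ρ r), map_add, Mv_conj_comm hc.symm, Mv_apply (ρ r)]
  rw [this]
  exact P.mv_dbar hr (by rw [(P.two_full h2).2]; exact ⟨v, rfl⟩)

theorem mv_W {r : G} (hr : r ∈ bs z Q') (h2 : qRank qm (ρ u) = 2) {v : V8} (hv : v ∈ Kg (ρ u)) :
    Mv (ρ r) v ∈ Wg (ρ u) := by
  rw [← (P.two_full h2).2]
  exact P.mv_bbar hr (by rw [P.bbar_F0 (P.two_full h2).1]; exact hv)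

/-- The kernel of the pairing at a point. -/
theorem phi_ker (h2 : qRank qm (ρ u) = 2) {x r : G} (hx : x ∈ Q) (hxK : π x ∉ Kg (ρ u)) (hr : r ∈ bs z Q')
    (hW : Mv (ρ r) (π x) ∈ Wg (ρ u)) : π' r ∈ Wg (ρ' z) := by
  have hF := (P.two_full h2).1
  have hF' := (P.symm.two_full (P.two_symm h2)).1
  rw [Wg_eq P.symm.g_invol, ← P.symm.bbar_F0 hF', mem_perp]
  intro w hw
  obtain ⟨r', hr', rfl⟩ := (mem_img P.S' P.symm.bs_le).1 hw
  rw [pb_comm]
  refine (two_cases _).resolve_right fun h1 => hxK ?_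
  have hrr : r * r' = u * (r' * r) := by
    have := P.S'.comm (mem_bs.1 hr).1 (mem_bs.1 hr').1
    rwa [h1, zb_one] at this
  have hcomQ : ∀ s ∈ bs z Q', s * x * s⁻¹ * x⁻¹ ∈ Q ∧ π (s * x * s⁻¹ * x⁻¹) = Mv (ρ s) (π x) := fun s hs =>
    ⟨mul_mem (P.S.conj_mem (P.rs_mem hs).1 hx) (inv_mem hx), by
      rw [P.S.pi_mul _ (P.S.conj_mem (P.rs_mem hs).1 hx) _ (inv_mem hx), P.S.rho_pi s (P.rs_mem hs).1 x hx,
        P.S.pi_inv hx, Mv_apply]⟩
  obtain ⟨heQ, heπ⟩ := hcomQ r hr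
  obtain ⟨heQ', heπ'⟩ := hcomQ r' hr'
  set e := r * x * r⁻¹ * x⁻¹ with he
  set e' := r' * x * r'⁻¹ * x⁻¹ with he'
  have he'B : e' ∈ bs u Q := P.mem_bs_of_pi heQ' (by rw [heπ', P.bbar_F0 hF]; exact P.mv_Kg hr' h2 _)
  -- `e` centralizes both
  obtain ⟨d, hd, hd', hde⟩ := P.mem_Wg_two h2 (heπ.symm ▸ hW)
  have hec : ∀ s, s * d = d * s → s * z = z * s → s * e = e * s := by
    intro s sd sz
    rcases P.S.pi_eq hd heQ hde with h | h <;> rw [h]
    · exact sd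
    · rw [← mul_assoc, sz, mul_assoc, sd, ← mul_assoc]
  have hdR : ∀ s ∈ bs z Q', s * e = e * s := fun s hs =>
    hec s (P.symm.d_comm hd' hd hs) (mem_bs.1 hs).2
  have hdB : ∀ s ∈ bs u Q, s * e = e * s := fun s hs =>
    hec s (P.d_comm hd hd' hs) (P.S.z_comm (mem_bs.1 hs).1)
  have heu : u * e = e * u := hdR u (mem_bs.2 ⟨P.S'.zQ, P.comm⟩)
  obtain ⟨hδ, hδ'⟩ := P.comm_bs hr (inv_mem he'B)
  set δ := r * e'⁻¹ * r⁻¹ * e'⁻¹⁻¹ with hδdef
  have hδe : Commute δ e := by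
    exact hdB δ (P.d_bs hδ hδ')
  have c1 : x * r * x⁻¹ = e⁻¹ * r := by rw [he]; group
  have c2 : x * r' * x⁻¹ = e'⁻¹ * r' := by rw [he']; group
  have Hx : (e⁻¹ * r) * (e'⁻¹ * r') = (x * u * x⁻¹) * ((e'⁻¹ * r') * (e⁻¹ * r)) := by
    rw [← c1, ← c2]
    calc x * r * x⁻¹ * (x * r' * x⁻¹) = x * (r * r') * x⁻¹ := by group
      _ = x * u * x⁻¹ * (x * r' * x⁻¹ * (x * r * x⁻¹)) := by rw [hrr]; group
  have k1 : Commute r' e⁻¹ := (show Commute r' e from hdR r' hr').inv_right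
  have k2 : Commute e'⁻¹ e⁻¹ := (show Commute e'⁻¹ e from hdB _ (inv_mem he'B)).inv_right
  have k4 : Commute u (e⁻¹ * e'⁻¹) :=
    Commute.mul_right (show Commute u e from heu).inv_right
      (show Commute e' u from (mem_bs.1 he'B).2).symm.inv_right
  have k5 : r * e'⁻¹ = δ * e'⁻¹ * r := by rw [hδdef]; group
  have hL : (e⁻¹ * r) * (e'⁻¹ * r') = δ * u * (e⁻¹ * e'⁻¹ * (r' * r)) := by
    calc (e⁻¹ * r) * (e'⁻¹ * r') = e⁻¹ * (r * e'⁻¹) * r' := by group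
      _ = (e⁻¹ * δ) * e'⁻¹ * (r * r') := by rw [k5]; group
      _ = δ * (e⁻¹ * e'⁻¹ * u) * (r' * r) := by rw [hrr, (hδe.inv_right).symm.eq]; group
      _ = δ * u * (e⁻¹ * e'⁻¹ * (r' * r)) := by rw [← k4.eq]; group
  have hR : (x * u * x⁻¹) * ((e'⁻¹ * r') * (e⁻¹ * r)) = (x * u * x⁻¹) * (e⁻¹ * e'⁻¹ * (r' * r)) := by
    congr 1
    calc (e'⁻¹ * r') * (e⁻¹ * r) = e'⁻¹ * (r' * e⁻¹) * r := by group
      _ = e'⁻¹ * e⁻¹ * (r' * r) := by rw [k1.eq]; group
      _ = _ := by rw [k2.eq]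
  rw [hL, hR] at Hx
  have hxu := mul_right_cancel Hx
  have := P.weak' (x * u * x⁻¹) (P.conj.trans (isConj_iff.2 ⟨x, rfl⟩))
    (by rw [← hxu]; exact mul_mem hδ' P.S'.zQ)
  refine P.bbar_le (P.pi_bs (mem_bs.2 ⟨hx, ?_⟩))
  exact mul_inv_eq_iff_eq_mul.1 this

theorem phi_zero (h2 : qRank qm (ρ u) = 2) {r : G} (hr : r ∈ bs z Q') (hW : π' r ∈ Wg (ρ' z)) (v : V8) :
    Mv (ρ r) v ∈ Wg (ρ u) := by
  obtain ⟨d, hd', hd, hde⟩ := P.symm.mem_Wg_two (P.two_symm h2) hW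
  rcases P.S'.pi_eq hd' (mem_bs.1 hr).1 hde with h | h <;> rw [h]
  · rw [P.S.rho_Q hd, Mv_one]; exact zero_mem _
  · rw [P.S.rho_mul u P.uC d (P.S.le hd), P.S.rho_Q hd, mul_one]
    exact ⟨v, rfl⟩

theorem phi_mul (h2 : qRank qm (ρ u) = 2) {r r' : G} (hr : r ∈ bs z Q') (hr' : r' ∈ bs z Q') (v : V8) :
    Mv (ρ (r * r')) v + (Mv (ρ r') v + Mv (ρ r) v) ∈ Wg (ρ u) := by
  rw [P.S.rho_mul r (P.rs_mem hr).1 r' (P.rs_mem hr').1, Mv_mul, add_assoc (Mv (ρ r) (Mv (ρ r') v)), add_assoc,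
    add_self8, add_zero]
  exact P.mv_W hr h2 (P.mv_Kg hr' h2 v)

theorem phi_surj (h2 : qRank qm (ρ u) = 2) {x : G} (hx : x ∈ Q) (hxK : π x ∉ Kg (ρ u)) {w : V8}
    (hw : w ∈ Kg (ρ u)) : ∃ r ∈ bs z Q', Mv (ρ r) (π x) + w ∈ Wg (ρ u) := by
  classical
  set W := Wg (ρ u) with hW
  let f : bs z Q' →* Multiplicative (V8 ⧸ W) :=
    MonoidHom.mk' (fun r => Multiplicative.ofAdd (W.mkQ (Mv (ρ (r : G)) (π x)))) fun a b => by
      rw [← ofAdd_add, coe_mul, ← map_add]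
      refine congrArg Multiplicative.ofAdd ((Submodule.Quotient.eq W).2 ?_)
      have hneg : ∀ a c : V8, a - c = a + c := fun a c => funext fun i => CharTwo.sub_eq_add _ _
      rw [hneg, add_comm (Mv (ρ (a : G)) (π x))]
      exact P.phi_mul h2 a.2 b.2 _
  let L : Kg (ρ u) →ₗ[ZMod 2] V8 ⧸ W := W.mkQ.comp (Kg (ρ u)).subtype
  have hWK : W ≤ Kg (ρ u) := Wg_le_Kg P.g_invol
  have hrange : ∀ y ∈ f.range, Multiplicative.toAdd y ∈ LinearMap.range L := by
    rintro _ ⟨r, rfl⟩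
    exact ⟨⟨_, P.mv_Kg r.2 h2 _⟩, rfl⟩
  have hL : Module.finrank (ZMod 2) (LinearMap.range L) = 4 := by
    have h1 := L.finrank_range_add_finrank_ker
    have hk : LinearMap.ker L = Submodule.comap (Kg (ρ u)).subtype W := by
      rw [LinearMap.ker_comp, Submodule.ker_mkQ]
    rw [hk, LinearEquiv.finrank_eq (Submodule.comapSubtypeEquivOfLe hWK), P.finrank_Wg_two h2] at h1
    have h3 := finrank_Kg P.g_invol
    omega
  have hkerle : Nat.card f.ker ≤ 8 := by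
    set H := f.ker.map (bs z Q').subtype with hH
    have hHQ : H ≤ Q' := (map_subtype_le _).trans inf_le_left
    have hu : u ∈ H := ⟨⟨u, mem_bs.2 ⟨P.S'.zQ, P.comm⟩⟩, by
      show f _ = 1
      refine congrArg Multiplicative.ofAdd ?_
      exact (Submodule.Quotient.mk_eq_zero W).2 ⟨π x, rfl⟩, rfl⟩
    have hc := card_img_z P.S' hHQ hu
    have himg : img π' H ≤ Wg (ρ' z) := by
      intro v hv
      obtain ⟨a, ⟨r, hr, rfl⟩, rfl⟩ := (mem_img P.S' hHQ).1 hv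
      refine P.phi_ker h2 hx hxK r.2 ?_
      exact (Submodule.Quotient.mk_eq_zero W).1 (congrArg Multiplicative.toAdd hr)
    have := Submodule.finrank_mono himg
    rw [P.symm.finrank_Wg_two (P.two_symm h2)] at this
    rw [← card_map_of_injective (bs z Q').subtype_injective, ← hH, hc, card_sub]
    have := Nat.pow_le_pow_right (n := 2) two_pos this
    omega
  have hR : Nat.card (bs z Q') = 128 := by
    rw [P.r_card, P.symm.bbar_F0 (P.symm.two_full (P.two_symm h2)).1]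
    have := finrank_Kg P.symm.g_invol
    rw [P.two_symm h2] at this
    rw [show Module.finrank (ZMod 2) (Kg (ρ' z)) = 6 by omega]
    norm_num
  have h16 : 16 ≤ Nat.card f.range := by
    have := card_mul_index f.ker
    rw [index_ker, hR] at this
    by_contra hlt
    have : Nat.card f.ker * Nat.card f.range ≤ 8 * 15 := Nat.mul_le_mul hkerle (by omega)
    omega
  have hfin : Nat.card (LinearMap.range L) = 16 := by
    rw [Module.natCard_eq_pow_finrank (K := ZMod 2), Nat.card_zmod, hL]; rfl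
  haveI : Finite (V8 ⧸ W) := Finite.of_surjective _ W.mkQ_surjective
  have hinj : Function.Injective (fun y : f.range => (⟨_, hrange y.1 y.2⟩ : LinearMap.range L)) :=
    fun a b h => Subtype.ext (Multiplicative.toAdd.injective (by
      exact congrArg (fun y : LinearMap.range L => (y : V8 ⧸ W)) h))
  obtain ⟨⟨_, r, rfl⟩, hy⟩ := ((Nat.bijective_iff_injective_and_card _).2 ⟨hinj,
    le_antisymm (Nat.card_le_card_of_injective _ hinj) (hfin.trans_le h16)⟩).2 ⟨L ⟨w, hw⟩, ⟨_, rfl⟩⟩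
  refine ⟨r, r.2, ?_⟩
  have h1 : W.mkQ (Mv (ρ (r : G)) (π x)) = W.mkQ w :=
    congrArg (fun y : LinearMap.range L => (y : V8 ⧸ W)) hy
  have := (Submodule.Quotient.eq W).1 h1
  rwa [show ∀ a c : V8, a - c = a + c from fun a c => funext fun i => CharTwo.sub_eq_add _ _] at this

/-- Conjugation of the pairing by a map fixing the moved space pointwise. -/
theorem phi_tp (h2 : qRank qm (ρ u) = 2) {a b : V8} (ha : a ∈ Kg (ρ u)) (hb : b ∈ Kg (ρ u))
    (h : qm a = 0 ∧ qm b = 0 ∧ pb a b = 0) {r : G} (hr : r ∈ bs z Q') :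
    ∃ s ∈ bs z Q', ∀ v, Mv (ρ s) v + (pb (Mv (ρ r) v) a • b + pb (Mv (ρ r) v) b • a) ∈ Wg (ρ u) := by
  obtain ⟨c, hc, hcκ⟩ := (P.S.rho_range (tp a b h)).1 (tp_mem_ev a b h)
  obtain ⟨x, hx, hk⟩ := P.lift_two h2 hc (by
    rw [hcκ]; exact (tp_comm h (Mv_eq_zero.1 ha) (Mv_eq_zero.1 hb)).symm)
  have hkC : x * c ∈ centralizer ({z} : Set G) := mul_mem (P.S.le hx) hc
  have hkρ : ρ (x * c) = tp a b h := by rw [P.S.rho_mul x (P.S.le hx) c hc, P.S.rho_Q hx, one_mul, hcκ]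
  set k := x * c
  have hr2 : k * r * k⁻¹ ∈ bs z Q' := by
    refine mem_bs.2 ⟨P.S'.conj_mem (mem_centralizer_singleton_iff.2 hk) (mem_bs.1 hr).1, ?_⟩
    exact mem_centralizer_singleton_iff.1 (mul_mem (mul_mem hkC (P.rs_mem hr).1) (inv_mem hkC))
  refine ⟨k * r * k⁻¹ * r, mul_mem hr2 hr, fun v => ?_⟩
  have hT : ∀ w, (tp a b h).1 w + w = pb w a • b + pb w b • a := fun w => Mv_tp a b h w
  have e2 : Mv (ρ (k * r * k⁻¹)) ((tp a b h).1 v) = (tp a b h).1 (Mv (ρ r) v) := by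
    have hm : ρ (k * r * k⁻¹) = tp a b h * ρ r * (tp a b h)⁻¹ := by
      rw [P.S.rho_mul _ (mul_mem hkC (P.rs_mem hr).1) _ (inv_mem hkC), P.S.rho_mul _ hkC _ (P.rs_mem hr).1,
        P.S.rho_inv hkC, hkρ]
    rw [hm, Mv_apply, Mv_apply, qAut_mul_apply, qAut_mul_apply, map_add,
      show ((tp a b h)⁻¹).1 ((tp a b h).1 v) = v from (tp a b h).1.symm_apply_apply v]
  have hKT : (tp a b h).1 v + v ∈ Kg (ρ u) := by
    rw [hT]; exact add_mem ((Kg (ρ u)).smul_mem _ hb) ((Kg (ρ u)).smul_mem _ ha)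
  have e1 := P.mv_W hr2 h2 hKT
  rw [map_add, e2] at e1
  have e3 := add_mem (P.phi_mul h2 hr2 hr v) e1
  rw [← hT]
  convert e3 using 1
  simp [add_comm, add_left_comm, add_cancel8, add_self8]

/-- Rank two is impossible. -/
theorem rank_four : qRank qm (ρ u) = 4 := by
  refine P.rank_cases.resolve_left fun h2 => ?_
  set W := Wg (ρ u) with hWdef
  have hWK : W ≤ Kg (ρ u) := Wg_le_Kg P.g_invol
  have hKf := finrank_Kg P.g_invol
  obtain ⟨v1, -, hv1⟩ := SetLike.exists_of_lt (lt_of_le_of_ne (le_top (a := Kg (ρ u))) fun e => by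
    rw [e, finrank_top, finrank8] at hKf; omega)
  obtain ⟨v2, -, hv2⟩ := SetLike.exists_of_lt (lt_of_le_of_ne
    (le_top (a := Kg (ρ u) ⊔ Submodule.span (ZMod 2) {v1})) fun e => by
    have h1 := Submodule.finrank_sup_add_finrank_inf_eq (Kg (ρ u)) (Submodule.span (ZMod 2) {v1})
    have h3 : Module.finrank (ZMod 2) (Submodule.span (ZMod 2) {v1}) ≤ 1 := by
      have := finrank_span_le_card (R := ZMod 2) ({v1} : Set V8)
      simpa using this
    rw [e, finrank_top, finrank8] at h1; omega)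
  have hv2' : v2 ∉ Kg (ρ u) := fun h => hv2 (Submodule.mem_sup_left h)
  have hv3 : v1 + v2 ∉ Kg (ρ u) := fun h => hv2 (by
    rw [show v2 = (v1 + v2) + v1 by rw [add_comm (v1 + v2), add_cancel8]]
    exact add_mem (Submodule.mem_sup_left h) (Submodule.mem_sup_right (Submodule.mem_span_singleton_self _)))
  obtain ⟨x1, hx1, rfl⟩ := P.S.pi_surj v1
  obtain ⟨x2, hx2, rfl⟩ := P.S.pi_surj v2
  obtain ⟨a, b, b', ha, hb, hb', qa, qb, qb', hab, hab', hbb', haW⟩ :=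
    plane_frame (P.ts_two h2) (P.finrank_Wg_two h2)
  rw [← Kg_eq P.g_invol] at ha hb hb'
  have hpW : ∀ w ∈ W, ∀ c ∈ Kg (ρ u), pb w c = 0 := fun w hw c hc => pb_perp hw (Kg_eq P.g_invol ▸ hc)
  have hcong : ∀ {p q c : V8}, p + q ∈ W → c ∈ Kg (ρ u) → pb p c = pb q c := fun {p q c} hpq hc =>
    CharTwo.add_eq_zero.1 (by rw [← pb_add_left]; exact hpW _ hpq _ hc)
  obtain ⟨r, hr, hr1⟩ := P.phi_surj h2 hx1 hv1 hb'
  obtain ⟨s, hs, hsφ⟩ := P.phi_tp h2 ha hb ⟨qa, qb, hab⟩ hr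
  obtain ⟨r', hr', hr1'⟩ := P.phi_surj h2 hx1 hv1 hb
  obtain ⟨s', hs', hsφ'⟩ := P.phi_tp h2 ha hb' ⟨qa, qb', hab'⟩ hr'
  have hs1 : Mv (ρ s) (π x1) + a ∈ W := by
    have := hsφ (π x1)
    rw [hcong hr1 ha, hcong hr1 hb, pb_comm b' a, hab', pb_comm b' b, hbb', zero_smul, one_smul, zero_add] at this
    exact this
  have hs1' : Mv (ρ s') (π x1) + a ∈ W := by
    have := hsφ' (π x1)
    rw [hcong hr1' ha, hcong hr1' hb', pb_comm b a, hab, hbb', zero_smul, one_smul, zero_add] at this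
    exact this
  have hker : π' (s * s') ∈ Wg (ρ' z) := by
    refine P.phi_ker h2 hx1 hv1 (mul_mem hs hs') ?_
    have := add_mem (P.phi_mul h2 hs hs' (π x1)) (add_mem hs1 hs1')
    convert this using 1
    simp [add_comm, add_left_comm, add_cancel8, add_self8]
  have h22 : Mv (ρ s) (π x2) + Mv (ρ s') (π x2) ∈ W := by
    have := add_mem (P.phi_mul h2 hs hs' (π x2)) (P.phi_zero h2 (mul_mem hs hs') hker (π x2))
    convert this using 1
    simp [add_comm, add_left_comm, add_cancel8, add_self8]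
  -- the coefficient of `b`
  have hβ : pb (Mv (ρ s) (π x2)) b' = 0 := by
    rw [hcong h22 hb', hcong (hsφ' (π x2)) hb', pb_add_left, pb_smul_left, pb_smul_left, pb_self, hab', mul_zero,
      mul_zero, add_zero]
  have hc := hsφ (π x2)
  have hm : pb (Mv (ρ r) (π x2)) a = 0 := by
    rw [hcong hc hb', pb_add_left, pb_smul_left, pb_smul_left, hbb', hab', mul_one, mul_zero, add_zero] at hβ
    exact hβ
  rw [hm, zero_smul, zero_add] at hc
  have hkill : ∀ {x : G}, x ∈ Q → π x ∉ Kg (ρ u) → Mv (ρ s) (π x) ∈ W → False := fun {x} hx hxK hxW => by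
    have h0 := P.phi_zero h2 hs (P.phi_ker h2 hx hxK hs hxW) (π x1)
    refine haW ?_
    have := add_mem hs1 h0
    convert this using 1
    simp [add_comm, add_left_comm, add_cancel8, add_self8]
  rcases two_cases (pb (Mv (ρ r) (π x2)) b) with e | e <;> rw [e] at hc
  · exact hkill hx2 hv2' (by simpa using hc)
  · refine hkill (mul_mem hx1 hx2) (by rwa [P.S.pi_mul x1 hx1 x2 hx2]) ?_
    rw [P.S.pi_mul x1 hx1 x2 hx2, map_add]
    rw [one_smul] at hc
    have := add_mem hs1 hc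
    convert this using 1
    simp [add_comm, add_left_comm, add_cancel8, add_self8]

end WPair

end CfsgLib.CoOneWeak
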