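import Mathlib
import Cfsg.Agent.Lib.CoOneRec.Weak.RankTwo

/-!
The centralizer of the fixed part of `Q`, and the conjugates of `z` in it.
-/

set_option autoImplicit false
set_option linter.style.haveILetI false
set_option linter.unusedSimpArgs false
set_option linter.unusedSectionVars false

namespace CfsgLib.CoOneWeak

open Subgroup CfsgLib.Classical CfsgLib.CoType

variable {G : Type*} [Group G] [Finite G]

/-- The conjugates of `z` centralizing a subgroup, other than `z`. -/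
def Yset (z : G) (H : Subgroup G) : Set G := {v | IsConj z v ∧ v ∈ centralizer (H : Set G) ∧ v ≠ z}

namespace WPair

variable {z u : G} {Q Q' : Subgroup G} {π π' : G → V8} {ρ ρ' : G → qAut qm}
  (P : WPair z u Q Q' π π' ρ ρ')

include P

theorem d_one' {d : G} (hd : d ∈ Q) (hd' : d ∈ Q') : d = 1 := P.d_one_four P.rank_four hd hd'

theorem br_comm {r b : G} (hr : r ∈ bs z Q') (hb : b ∈ bs u Q) : r * b = b * r := by
  obtain ⟨h1, h2⟩ := P.comm_bs hr hb
  have := P.d_one' h1 h2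
  rwa [mul_inv_eq_one, mul_inv_eq_iff_eq_mul] at this

/-- Some element of the fixed part gives no conjugate. -/
theorem exists_not_conj : ∃ e ∈ bs u Q, ¬ IsConj z (e * u) := by
  by_contra hn
  push Not at hn
  haveI := finite_qAut qm
  obtain ⟨U, hU, hU3⟩ := exists_sub (P.symm.finrank_bbar_four P.symm.rank_four)
  have hD : ∀ d ∈ Q', d ∈ Q → d = 1 := fun d h1 h2 => P.d_one' h2 h1
  have h8 := three_bound (fun v hv => P.symm.ts_bbar_four P.symm.rank_four v (hU hv)) hU3 P.symm.rImg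
    (fun y hy v hv => P.symm.rImg_fix hD hy (hU hv))
    (fun y hy x => by
      obtain ⟨e, he, rfl⟩ := P.symm.mem_rImg.1 hy
      rw [← qAut_mul_apply, ← P.S'.rho_mul e (P.symm.rs_mem he).1 e (P.symm.rs_mem he).1,
        (P.bs_elem P.rank_four he he).1, P.S'.rho_one]
      rfl)
    (fun y hy hy1 => by
      obtain ⟨e, he, rfl⟩ := P.symm.mem_rImg.1 hy
      have he1 : e ≠ 1 := fun h => hy1 (by rw [h, P.S'.rho_one])
      have hne : e * u ≠ u := fun h => he1 (mul_eq_right.1 h)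
      have hc : e * u * u = u * (e * u) := by rw [← mul_assoc u, ← (mem_bs.1 he).2]
      obtain ⟨Q'', π'', ρ'', P2⟩ :=
        of_conj P.S' (fun v hv h => P.symm.weak v hv h) (P.conj.symm.trans (hn e he)) hne hc
      have h4 := P2.rank_four
      rwa [P.S'.rho_mul e (P.symm.rs_mem he).1 u P.S'.z_mem, P.S'.rho_Q P.S'.zQ, mul_one] at h4)
  rw [P.symm.card_rImg hD, P.card_bs, card_sub] at h8
  have := Nat.pow_le_pow_right (n := 2) two_pos (P.finrank_bbar_four P.rank_four)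
  omega

theorem cm_or {e : G} (he : e ∈ bs u Q) : ∃ x ∈ Q, e = cm u x ∨ e = z * cm u x := by
  obtain ⟨⟨w, hw⟩, -⟩ := (P.mem_bbar_four P.rank_four).1 (P.pi_bs he)
  obtain ⟨x, hx, rfl⟩ := P.S.pi_surj w
  exact ⟨x, hx, P.S.pi_eq (P.cm_mem hx) (mem_bs.1 he).1 ((P.pi_cm hx).trans hw)⟩

/-- `z u` is no conjugate, and `z` is no commutator. -/
theorem f0_zu : F0 z u Q ∧ ¬ IsConj z (z * u) := by
  obtain ⟨e, he, hne⟩ := P.exists_not_conj
  obtain ⟨x, hx, hc⟩ := P.cm_or he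
  have h0 : ∀ x, IsConj z (cm u x * u) := fun x => by
    rw [← cm_conj]; exact P.conj.trans (isConj_iff.2 ⟨x, rfl⟩)
  rcases hc with rfl | rfl
  · exact absurd (h0 x) hne
  refine ⟨fun y hy hyz => hne ?_, fun hzu => hne ?_⟩
  · have hyK : π y ∈ Kg (ρ u) := by rw [mem_Kg, ← P.pi_cm hy, hyz, P.S.pi_z]
    rw [Kg_eq P.g_invol] at hyK
    have hc : y * cm u x * y⁻¹ = cm u x := pi_conj_comm P.S hy (P.cm_mem hx)
      (pb_perp' (P.pi_cm hx ▸ (⟨_, rfl⟩ : Mv (ρ u) (π x) ∈ Wg (ρ u))) hyK)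
    rw [show z * cm u x = cm u (y * x) by rw [cm_mul, hc, hyz, P.S.z_comm (P.cm_mem hx)]]
    exact h0 _
  · refine hzu.trans (isConj_iff.2 ⟨x, ?_⟩)
    calc x * (z * u) * x⁻¹ = x * z * u * x⁻¹ := by group
      _ = z * (x * u * x⁻¹) := by rw [P.S.z_comm hx]; group
      _ = z * cm u x * u := by rw [cm_conj, ← mul_assoc]

theorem coset_eq {v : G} (hv : IsConj z v) (hvC : v ∈ centralizer ({z} : Set G)) (hρ : ρ v = ρ u) :
    ∃ x ∈ Q, v = x * u * x⁻¹ := by
  obtain ⟨x, hx, c, e⟩ := P.coset_four P.rank_four hv hvC hρ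
  rcases two_cases c with rfl | rfl
  · exact ⟨x, hx, by rw [e, zb_zero, one_mul]⟩
  · refine absurd (hv.trans (isConj_iff.2 ⟨x⁻¹, ?_⟩)) P.f0_zu.2
    rw [e, zb_one]
    calc x⁻¹ * (z * (x * u * x⁻¹)) * x⁻¹⁻¹ = x⁻¹ * (z * x) * u := by group
      _ = z * u := by rw [← P.S.z_comm hx, inv_mul_cancel_left]

theorem bbar_eq : img π (bs u Q) = Wg (ρ u) := P.bbar_four P.rank_four P.f0_zu.1

theorem card_bs_four : Nat.card (bs u Q) = 32 := by
  rw [P.card_bs, P.bbar_eq, card_sub, P.finrank_Wg_four P.rank_four]; norm_num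

theorem cent_C {a : G} (ha : a ∈ centralizer (bs u Q : Set G)) : a ∈ centralizer ({z} : Set G) :=
  mem_centralizer_singleton_iff.2 (mem_centralizer_iff.1 ha z P.z_bs).symm

theorem cent_fix {a : G} (ha : a ∈ centralizer (bs u Q : Set G)) : Fix (Wg (ρ u)) (ρ a) := by
  intro w hw
  rw [← P.bbar_eq] at hw
  obtain ⟨b, hb, rfl⟩ := (mem_img P.S P.bs_le).1 hw
  rw [← P.S.rho_pi a (P.cent_C ha) b (mem_bs.1 hb).1, ← mem_centralizer_iff.1 ha b hb, mul_inv_cancel_right]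

theorem cent_Q {a : G} (ha : a ∈ centralizer (bs u Q : Set G)) (haQ : a ∈ Q) : a ∈ bs u Q := by
  refine P.mem_bs_of_pi haQ ?_
  rw [P.bbar_eq, ← P.perp_Wg_four P.rank_four, mem_perp]
  intro w hw
  rw [← P.bbar_eq] at hw
  obtain ⟨b, hb, rfl⟩ := (mem_img P.S P.bs_le).1 hw
  exact (P.S.commute_iff (mem_bs.1 hb).1 haQ).1 (mem_centralizer_iff.1 ha b hb)

theorem cent_isPGroup : IsPGroup 2 (centralizer (bs u Q : Set G)) := by
  intro a
  refine ⟨2, Subtype.ext ?_⟩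
  have hC := P.cent_C a.2
  have hi := (P.cent_fix a.2).invol (P.perp_Wg_four P.rank_four)
  have h2 : (a : G) * a ∈ bs u Q := P.cent_Q (mul_mem a.2 a.2) ((P.S.rho_ker _ (mul_mem hC hC)).1 (by
    rw [P.S.rho_mul _ hC _ hC]
    exact qAut_ext fun v => hi v))
  show (a : G) ^ 2 ^ 2 = 1
  rw [show (a : G) ^ 2 ^ 2 = (a * a) * (a * a) by norm_num [pow_succ, mul_assoc]]
  exact (P.bs_elem P.rank_four h2 h2).1

theorem rs_cent {r : G} (hr : r ∈ bs z Q') : r ∈ centralizer (bs u Q : Set G) :=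
  mem_centralizer_iff.2 fun _ hb => (P.br_comm hr hb).symm

theorem bs_cent {b : G} (hb : b ∈ bs u Q) : b ∈ centralizer (bs u Q : Set G) :=
  mem_centralizer_iff.2 fun _ hc => (P.bs_elem P.rank_four hc hb).2

theorem card_cent : Nat.card (centralizer (bs u Q : Set G)) ≤ 2048 := by
  haveI := finite_qAut qm
  let f : centralizer (bs u Q : Set G) →* qAut qm :=
    MonoidHom.mk' (fun a => ρ (a : G)) fun a b => P.S.rho_mul _ (P.cent_C a.2) _ (P.cent_C b.2)
  have h := card_mul_index f.ker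
  rw [index_ker] at h
  have h1 : Nat.card f.ker ≤ 32 := by
    rw [← P.card_bs_four]
    exact Nat.card_le_card_of_injective
      (fun a : f.ker => (⟨(a.1 : G), P.cent_Q a.1.2 ((P.S.rho_ker _ (P.cent_C a.1.2)).1 a.2)⟩ : bs u Q))
      fun a b e => Subtype.ext (Subtype.ext (congrArg (fun x : bs u Q => (x : G)) e))
  have h2 : Nat.card f.range ≤ 64 := by
    refine le_trans ?_ (four_facts (P.ts_F0 P.f0_zu.1) (P.finrank_Wg_four P.rank_four)).1
    refine Nat.card_le_card_of_injective (fun y : f.range => (⟨y.1, by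
      obtain ⟨a, e⟩ := y.2
      rw [← e]; exact P.cent_fix a.2⟩ : {y : qAut qm // Fix (Wg (ρ u)) y}))
      fun a b e => Subtype.ext (congrArg (fun x : {y : qAut qm // Fix (Wg (ρ u)) y} => x.1) e)
  rw [← h]
  exact Nat.mul_le_mul h1 h2

theorem norm_bs {c b : G} (hc : c ∈ centralizer ({z} : Set G))
    (hW : ∀ w ∈ Wg (ρ u), (ρ c).1 w ∈ Wg (ρ u)) (hb : b ∈ bs u Q) : c * b * c⁻¹ ∈ bs u Q := by
  refine P.mem_bs_of_pi (P.S.conj_mem hc (mem_bs.1 hb).1) ?_
  rw [P.S.rho_pi c hc b (mem_bs.1 hb).1, P.bbar_eq]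
  exact hW _ (P.bbar_eq ▸ P.pi_bs hb)

theorem norm_cent {c a : G} (hc : c ∈ centralizer ({z} : Set G))
    (hW : ∀ w ∈ Wg (ρ u), (ρ c).1 w ∈ Wg (ρ u)) (ha : a ∈ centralizer (bs u Q : Set G)) :
    c * a * c⁻¹ ∈ centralizer (bs u Q : Set G) := by
  refine mem_centralizer_iff.2 fun b hb => ?_
  -- the map on the finite subgroup is onto
  obtain ⟨⟨b', hb'⟩, e⟩ := (Finite.injective_iff_surjective (f := fun b : bs u Q =>
    (⟨c * b * c⁻¹, P.norm_bs hc hW b.2⟩ : bs u Q))).1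
      (fun x y h => Subtype.ext (mul_left_cancel (mul_right_cancel (congrArg (fun x : bs u Q => (x : G)) h)))) ⟨b, hb⟩
  have e' : c * b' * c⁻¹ = b := congrArg (fun x : bs u Q => (x : G)) e
  rw [← e']
  calc c * b' * c⁻¹ * (c * a * c⁻¹) = c * (b' * a) * c⁻¹ := by group
    _ = c * a * c⁻¹ * (c * b' * c⁻¹) := by rw [mem_centralizer_iff.1 ha b' hb']; group

/-- The centralizer of the fixed part centralizes `u`. -/
theorem cent_u {a : G} (ha : a ∈ centralizer (bs u Q : Set G)) : a * u = u * a := by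
  haveI := finite_qAut qm
  have hW4 := P.perp_Wg_four P.rank_four
  have huC : ∀ a ∈ centralizer (bs u Q : Set G), ∃ x ∈ Q, cm u a = cm u x := by
    intro a ha
    obtain ⟨x, hx, e⟩ := P.coset_eq (v := a * u * a⁻¹) (P.conj.trans (isConj_iff.2 ⟨a, rfl⟩))
      (mul_mem (mul_mem (P.cent_C ha) P.uC) (inv_mem (P.cent_C ha))) (by
        rw [P.S.rho_mul _ (mul_mem (P.cent_C ha) P.uC) _ (inv_mem (P.cent_C ha)),
          P.S.rho_mul _ (P.cent_C ha) _ P.uC, P.S.rho_inv (P.cent_C ha),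
          (P.cent_fix ha).comm hW4 (P.fix_g P.rank_four), mul_inv_cancel_right])
    exact ⟨x, hx, by rw [cm, e, cm]⟩
  have hB : ∀ a ∈ centralizer (bs u Q : Set G), cm u a ∈ bs u Q := fun a ha => by
    obtain ⟨x, hx, e⟩ := huC a ha
    rw [e]
    exact (P.cm_bs_iff hx).2 (P.ts_F0 P.f0_zu.1 _ ⟨_, rfl⟩)
  let f : centralizer (bs u Q : Set G) →* Multiplicative V8 :=
    MonoidHom.mk' (fun a => Multiplicative.ofAdd (π (cm u (a : G)))) fun a b => by
      rw [← ofAdd_add, coe_mul, cm_mul, ← mem_centralizer_iff.1 a.2 _ (hB b b.2), mul_inv_cancel_right,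
        P.S.pi_mul _ (mem_bs.1 (hB b b.2)).1 _ (mem_bs.1 (hB a a.2)).1, add_comm]
  have hker : 1024 ≤ Nat.card f.ker := by
    have hm : ∀ p : bs u Q × bs z Q', (p.1 : G) * p.2 ∈ centralizer (bs u Q : Set G) := fun p =>
      mul_mem (P.bs_cent p.1.2) (P.rs_cent p.2.2)
    have hcm : ∀ p : bs u Q × bs z Q', (⟨_, hm p⟩ : centralizer (bs u Q : Set G)) ∈ f.ker := fun p => by
      show f _ = 1
      refine congrArg Multiplicative.ofAdd ?_
      rw [cm_eq_one.2 (Commute.mul_left (show Commute (p.1 : G) u from (mem_bs.1 p.1.2).2)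
        (show Commute (p.2 : G) u from (P.rs_mem p.2.2).2)).eq, P.S.pi_one]
    have := Nat.card_le_card_of_injective (fun p => (⟨_, hcm p⟩ : f.ker)) (by
      rintro ⟨b, r⟩ ⟨b', r'⟩ h
      have h' : (b : G) * r = b' * r' := congrArg (fun x : f.ker => ((x.1 : _) : G)) h
      have h1 : (b' : G)⁻¹ * b = r' * (r : G)⁻¹ := by
        rw [eq_mul_inv_iff_mul_eq, mul_assoc, h', inv_mul_cancel_left]
      have h2 := P.d_one' (mul_mem (inv_mem (mem_bs.1 b'.2).1) (mem_bs.1 b.2).1)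
        (h1 ▸ mul_mem (mem_bs.1 r'.2).1 (inv_mem (mem_bs.1 r.2).1))
      have hb : (b : G) = b' := (inv_mul_eq_one.1 h2).symm
      rw [hb] at h'
      exact Prod.ext (Subtype.ext hb) (Subtype.ext (mul_left_cancel h')))
    rwa [Nat.card_prod, P.card_bs_four, P.symm.card_bs_four] at this
  have hrange : Nat.card f.range ≤ 2 := by
    have h := card_mul_index f.ker
    rw [index_ker] at h
    have := P.card_cent
    by_contra hlt
    have : 1024 * 3 ≤ Nat.card f.ker * Nat.card f.range := Nat.mul_le_mul hker (by omega)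
    omega
  obtain ⟨k, hk, hku, hk5, hkW, hfree⟩ := P.exists_five P.rank_four P.f0_zu.1
  have hzero : π (cm u a) = 0 := by
    by_contra hne
    have hcW : π (cm u a) ∈ Wg (ρ u) := by rw [← P.bbar_eq]; exact P.pi_bs (hB a ha)
    have hk2 : π (cm u (k * a * k⁻¹)) = (ρ k).1 (π (cm u a)) := by
      rw [← P.S.rho_pi k hk _ (mem_bs.1 (hB a ha)).1]
      congr 1
      have e1 : k⁻¹ * u = u * k⁻¹ := (Commute.inv_left (show Commute k u from hku)).eq
      calc cm u (k * a * k⁻¹) = k * a * (k⁻¹ * u) * k * a⁻¹ * k⁻¹ * u⁻¹ := by rw [cm]; group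
        _ = k * a * u * a⁻¹ * (k⁻¹ * u⁻¹) := by rw [e1]; group
        _ = k * a * u * a⁻¹ * (u⁻¹ * k⁻¹) := by
          rw [(Commute.inv_inv (show Commute k u from hku)).eq]
        _ = k * cm u a * k⁻¹ := by rw [cm]; group
    have hsing : ∀ y ∈ f.range, y = 1 ∨ y = f ⟨a, ha⟩ := by
      intro y hy
      by_contra hn
      push Not at hn
      classical
      have hsub : ({1, f ⟨a, ha⟩, y} : Finset (Multiplicative V8)).card ≤ Nat.card f.range := by
        rw [← Nat.card_eq_finsetCard]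
        refine Nat.card_le_card_of_injective (fun x => (⟨x.1, ?_⟩ : f.range))
          fun a b e => Subtype.ext (congrArg (fun x : f.range => x.1) e)
        rcases Finset.mem_insert.1 x.2 with e | e
        · rw [e]; exact one_mem _
        rcases Finset.mem_insert.1 e with e | e
        · rw [e]; exact ⟨_, rfl⟩
        · rw [Finset.mem_singleton.1 e]; exact hy
      have h1 : (1 : Multiplicative V8) ≠ f ⟨a, ha⟩ := fun h => hne (congrArg Multiplicative.toAdd h).symm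
      rw [Finset.card_insert_of_notMem (by simp [h1, hn.1.symm]), Finset.card_pair hn.2.symm] at hsub
      omega
    refine hne (hfree _ hcW ?_)
    rcases hsing _ ⟨⟨k * a * k⁻¹, P.norm_cent hk hkW ha⟩, rfl⟩ with e | e
    · have := (congrArg Multiplicative.toAdd e)
      change π (cm u (k * a * k⁻¹)) = 0 at this
      rw [hk2] at this
      exact absurd ((ρ k).1.map_eq_zero_iff.1 this) hne
    · have := (congrArg Multiplicative.toAdd e)
      change π (cm u (k * a * k⁻¹)) = π (cm u a) at this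
      rwa [hk2] at this
  obtain ⟨x, hx, e⟩ := huC a ha
  refine cm_eq_one.1 (((P.S.pi_ker _ (mem_bs.1 (hB a ha)).1).1 hzero).resolve_right fun hz => ?_)
  exact P.f0_zu.1 x hx (e.symm.trans hz)

/-- The two fixed parts have the same centralizer. -/
theorem cent_eq : centralizer (bs u Q : Set G) = centralizer (bs z Q' : Set G) := by
  have key : ∀ {z u : G} {Q Q' : Subgroup G} {π π' : G → V8} {ρ ρ' : G → qAut qm},
      WPair z u Q Q' π π' ρ ρ' → centralizer (bs u Q : Set G) ≤ centralizer (bs z Q' : Set G) := by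
    intro z u Q Q' π π' ρ ρ' P a ha
    refine mem_centralizer_iff.2 fun r hr => ?_
    obtain ⟨hr', hrz⟩ := mem_bs.1 hr
    have haC := P.cent_C ha
    have hrC := (P.rs_mem hr).1
    have h1 : a * r * a⁻¹ * r⁻¹ ∈ Q' :=
      mul_mem (P.S'.conj_mem (mem_centralizer_singleton_iff.2 (P.cent_u ha)) hr') (inv_mem hr')
    have h2 : a * r * a⁻¹ * r⁻¹ ∈ Q := (P.S.rho_ker _ (mul_mem (mul_mem (mul_mem haC hrC) (inv_mem haC))
      (inv_mem hrC))).1 (by
        rw [P.S.rho_mul _ (mul_mem (mul_mem haC hrC) (inv_mem haC)) _ (inv_mem hrC),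
          P.S.rho_mul _ (mul_mem haC hrC) _ (inv_mem haC), P.S.rho_mul _ haC _ hrC, P.S.rho_inv haC,
          P.S.rho_inv hrC, (P.cent_fix ha).comm (P.perp_Wg_four P.rank_four) (P.cent_fix (P.rs_cent hr))]
        group)
    have := P.d_one' h2 h1
    rw [mul_inv_eq_one, mul_inv_eq_iff_eq_mul] at this
    exact this.symm
  exact le_antisymm (key P) (key P.symm)

/-- The further configurations inside the centralizer share the fixed part. -/
theorem share {v : G} (hv : v ∈ Yset z (bs u Q)) : bs v Q = bs u Q ∧ Fix (Wg (ρ u)) (ρ v) ∧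
    qRank qm (ρ v) = 4 ∧ Wg (ρ v) = Wg (ρ u) ∧ ¬ IsConj z (z * v) ∧
    ∀ w, IsConj z w → w ∈ centralizer ({z} : Set G) → ρ w = ρ v → ∃ x ∈ Q, w = x * v * x⁻¹ := by
  obtain ⟨hvc, hvA, hvz⟩ := hv
  obtain ⟨Q'', π'', ρ'', P2⟩ := of_conj P.S P.weak hvc hvz (mem_centralizer_singleton_iff.1 (P.cent_C hvA))
  have hle : bs u Q ≤ bs v Q := fun b hb => mem_bs.2 ⟨(mem_bs.1 hb).1, mem_centralizer_iff.1 hvA b hb⟩
  have heq : bs u Q = bs v Q := Subgroup.eq_of_le_of_card_ge hle (by rw [P.card_bs_four, P2.card_bs_four])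
  exact ⟨heq.symm, P.cent_fix hvA, P2.rank_four, by rw [← P2.bbar_eq, ← heq, P.bbar_eq], P2.f0_zu.2,
    fun w h1 h2 h3 => P2.coset_eq h1 h2 h3⟩

theorem u_Y : u ∈ Yset z (bs u Q) :=
  ⟨P.conj, mem_centralizer_iff.2 fun _ hb => (mem_bs.1 hb).2, P.ne⟩

theorem trans_Y {v v' : G} (hv : v ∈ Yset z (bs u Q)) (hv' : v' ∈ Yset z (bs u Q)) :
    ∃ n ∈ centralizer ({z} : Set G), n * v * n⁻¹ = v' ∧
      ∀ a ∈ centralizer (bs u Q : Set G), n * a * n⁻¹ ∈ centralizer (bs u Q : Set G) := by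
  obtain ⟨-, hf, h4, -, -, -⟩ := P.share hv
  obtain ⟨-, hf', h4', -, -, horb⟩ := P.share hv'
  obtain ⟨κ, hκ, hκW, hκe⟩ :=
    (four_facts (P.ts_F0 P.f0_zu.1) (P.finrank_Wg_four P.rank_four)).2.2.1 _ _ hf h4 hf' h4'
  obtain ⟨c, hc, rfl⟩ := (P.S.rho_range κ).1 hκ
  have hvC := P.cent_C hv.2.1
  obtain ⟨x, hx, hxe⟩ := horb (c * v * c⁻¹) (hv.1.trans (isConj_iff.2 ⟨c, rfl⟩))
    (mul_mem (mul_mem hc hvC) (inv_mem hc)) (by
      rw [P.S.rho_mul _ (mul_mem hc hvC) _ (inv_mem hc), P.S.rho_mul _ hc _ hvC, P.S.rho_inv hc, hκe,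
        mul_inv_cancel_right])
  refine ⟨x⁻¹ * c, mul_mem (inv_mem (P.S.le hx)) hc, ?_,
    fun a ha => P.norm_cent (mul_mem (inv_mem (P.S.le hx)) hc) ?_ ha⟩
  · calc x⁻¹ * c * v * (x⁻¹ * c)⁻¹ = x⁻¹ * (c * v * c⁻¹) * x := by group
      _ = v' := by rw [hxe]; group
  · rw [P.S.rho_mul _ (inv_mem (P.S.le hx)) c hc, P.S.rho_Q (inv_mem hx), one_mul]
    exact hκW

theorem card_Y : Nat.card (Yset z (bs u Q)) = 448 := by
  classical
  haveI := finite_qAut qm
  have hW := P.ts_F0 P.f0_zu.1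
  have h4W := P.finrank_Wg_four P.rank_four
  obtain ⟨-, h28, htr, -⟩ := four_facts hW h4W
  have hsur : ∀ y : {y : qAut qm // Fix (Wg (ρ u)) y ∧ qRank qm y = 4}, ∃ v ∈ Yset z (bs u Q), ρ v = y.1 := by
    rintro ⟨y, hy, hy4⟩
    obtain ⟨κ, hκ, hκW, hκe⟩ := htr _ _ (P.fix_g P.rank_four) P.rank_four hy hy4
    obtain ⟨c, hc, rfl⟩ := (P.S.rho_range κ).1 hκ
    refine ⟨c * u * c⁻¹, ⟨P.conj.trans (isConj_iff.2 ⟨c, rfl⟩), P.norm_cent hc hκW P.u_Y.2.1, fun h => ?_⟩, ?_⟩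
    · refine P.ne ?_
      calc u = c⁻¹ * (c * u * c⁻¹) * c := by group
        _ = c⁻¹ * z * c := by rw [h]
        _ = z := by rw [mul_assoc, ← mem_centralizer_singleton_iff.1 hc, inv_mul_cancel_left]
    · rw [P.S.rho_mul _ (mul_mem hc P.uC) _ (inv_mem hc), P.S.rho_mul _ hc _ P.uC, P.S.rho_inv hc, hκe,
        mul_inv_cancel_right]
  choose f hf hfρ using hsur
  have hρY : ∀ v : Yset z (bs u Q), Fix (Wg (ρ u)) (ρ v.1) ∧ qRank qm (ρ v.1) = 4 :=
    fun v => ⟨(P.share v.2).2.1, (P.share v.2).2.2.1⟩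
  have hπY : ∀ v : Yset z (bs u Q), π (v.1 * (f ⟨ρ v.1, hρY v⟩)⁻¹) ∈ Wg (ρ u) ∧
      v.1 * (f ⟨ρ v.1, hρY v⟩)⁻¹ ∈ Q := by
    intro v
    obtain ⟨-, -, -, hWv, -, horb⟩ := P.share (hf ⟨ρ v.1, hρY v⟩)
    obtain ⟨x, hx, e⟩ := horb v.1 v.2.1 (P.cent_C v.2.2.1) (hfρ ⟨ρ v.1, hρY v⟩).symm
    obtain ⟨Q'', π'', ρ'', P2⟩ := of_conj P.S P.weak (hf ⟨ρ v.1, hρY v⟩).1 (hf ⟨ρ v.1, hρY v⟩).2.2
      (mem_centralizer_singleton_iff.1 (P.cent_C (hf ⟨ρ v.1, hρY v⟩).2.1))
    rw [show v.1 * (f ⟨ρ v.1, hρY v⟩)⁻¹ = cm (f ⟨ρ v.1, hρY v⟩) x by rw [cm]; exact congrArg (· * _) e]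
    exact ⟨hWv.le (show π (cm (f ⟨ρ v.1, hρY v⟩) x) ∈ Wg (ρ (f ⟨ρ v.1, hρY v⟩)) by
      rw [P2.pi_cm hx]; exact ⟨_, rfl⟩), P2.cm_mem hx⟩
  let Φ : Yset z (bs u Q) → {y : qAut qm // Fix (Wg (ρ u)) y ∧ qRank qm y = 4} × Wg (ρ u) :=
    fun v => (⟨ρ v.1, hρY v⟩, ⟨_, (hπY v).1⟩)
  have hΦ : Function.Bijective Φ := by
    constructor
    · intro v v' h
      simp only [Φ, Prod.mk.injEq, Subtype.mk.injEq] at h
      obtain ⟨h1, h2⟩ := h
      have he : (⟨ρ v.1, hρY v⟩ : {y : qAut qm // Fix (Wg (ρ u)) y ∧ qRank qm y = 4}) = ⟨ρ v'.1, hρY v'⟩ :=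
        Subtype.ext h1
      have q := (hπY v).2
      rw [he] at h2 q
      rcases P.S.pi_eq q (hπY v').2 h2 with e | e
      · exact Subtype.ext (mul_right_cancel e).symm
      · refine absurd ?_ (P.share v.2).2.2.2.2.1
        rw [← mul_assoc] at e
        rw [← mul_right_cancel e]
        exact v'.2.1
    · rintro ⟨y, w⟩
      obtain ⟨-, -, -, hWv, -, -⟩ := P.share (hf y)
      obtain ⟨Q'', π'', ρ'', P2⟩ := of_conj P.S P.weak (hf y).1 (hf y).2.2
        (mem_centralizer_singleton_iff.1 (P.cent_C (hf y).2.1))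
      have hw : (w : V8) ∈ Wg (ρ (f y)) := by rw [hWv]; exact w.2
      obtain ⟨x', hx'⟩ := hw
      obtain ⟨x, hx, rfl⟩ := P.S.pi_surj x'
      have hxC := P.S.le hx
      have hvA := P.cent_C (hf y).2.1
      have hρv : ρ (x * f y * x⁻¹) = y.1 := by
        rw [P.S.rho_mul _ (mul_mem hxC hvA) _ (inv_mem hxC), P.S.rho_mul _ hxC _ hvA, P.S.rho_Q hx,
          P.S.rho_Q (inv_mem hx), hfρ, one_mul, mul_one]
      refine ⟨⟨x * f y * x⁻¹, (hf y).1.trans (isConj_iff.2 ⟨x, rfl⟩),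
        P.norm_cent hxC (fun w hw => by rw [P.S.rho_Q hx]; exact hw) (hf y).2.1, fun h => (hf y).2.2 ?_⟩, ?_⟩
      · calc f y = x⁻¹ * (x * f y * x⁻¹) * x := by group
          _ = x⁻¹ * z * x := by rw [h]
          _ = z := by rw [mul_assoc, ← P.S.z_comm hx, inv_mul_cancel_left]
      · refine Prod.ext (Subtype.ext hρv) (Subtype.ext ?_)
        refine (congrArg (fun q : G => π (x * f y * x⁻¹ * q⁻¹)) (congrArg f (Subtype.ext hρv))).trans ?_
        show π (x * f y * x⁻¹ * (f y)⁻¹) = _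
        rw [← cm, P2.pi_cm hx, hx']
  rw [Nat.card_congr (Equiv.ofBijective Φ hΦ), Nat.card_prod, h28, card_sub, h4W]; norm_num

end WPair

end CfsgLib.CoOneWeak
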