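import Mathlib
import Cfsg.Agent.Lib.CoOneRec.Weak.RankFour
import Cfsg.Agent.Lib.Invol.ZStarFinal

/-!
The central involution is not weakly closed in its extraspecial subgroup.
-/

set_option autoImplicit false
set_option linter.style.haveILetI false
set_option linter.unusedSimpArgs false
set_option linter.unusedSectionVars false

namespace CfsgLib.CoOneWeak

open Subgroup CfsgLib.Classical CfsgLib.CoType

variable {G : Type*} [Group G] [Finite G]

theorem pow_eq_of_modEq : ∀ k ≤ 11, ∀ j ≤ 11, 2 ^ k ≡ 2 ^ j [MOD 449] → k = j := by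
  unfold Nat.ModEq; decide +kernel

/-- An element of a group of order a power of `449` normalizing a `2`-subgroup of order at most `2048`
centralizes it. -/
theorem commute_of_prime_pow {A : Subgroup G} (hA : IsPGroup 2 A) (hcard : Nat.card A ≤ 2048) {σ : G}
    (hσ : ∀ a ∈ A, σ * a * σ⁻¹ ∈ A) {n : ℕ} (hn : σ ^ 449 ^ n = 1) {a : G} (ha : a ∈ A) : σ * a = a * σ := by
  classical
  haveI : Fintype A := Fintype.ofFinite _
  haveI : Fact (Nat.Prime 449) := ⟨by norm_num⟩
  haveI : Fact (Nat.Prime 2) := ⟨Nat.prime_two⟩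
  let F : Function.End A := fun v => ⟨σ * v * σ⁻¹, hσ _ v.2⟩
  have hF : ∀ m v, ((F ^ m) v : G) = σ ^ m * v * (σ ^ m)⁻¹ := by
    intro m
    induction m with
    | zero => intro v; simp only [pow_zero, one_mul, inv_one, mul_one]; rfl
    | succ m ih =>
      intro v
      rw [pow_succ]
      change ((F ^ m) (F v) : G) = _
      rw [ih, pow_succ]
      show σ ^ m * (σ * v * σ⁻¹) * (σ ^ m)⁻¹ = _
      group
  have h5 : F ^ 449 ^ n = 1 := funext fun v => Subtype.ext (by rw [hF, hn]; simp; rfl)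
  have h := Equiv.Perm.card_fixedPoints_modEq h5
  set K : Subgroup A := (centralizer ({σ} : Set G)).subgroupOf A with hK
  have h1 : Fintype.card F.fixedPoints = Nat.card K := by
    rw [← Nat.card_eq_fintype_card]
    refine Nat.card_congr (Equiv.subtypeEquivRight fun v => ?_)
    rw [hK, mem_subgroupOf, mem_centralizer_singleton_iff]
    show (⟨σ * v * σ⁻¹, hσ _ v.2⟩ : A) = v ↔ _
    rw [Subtype.ext_iff, mul_inv_eq_iff_eq_mul, eq_comm]
  obtain ⟨k, hk⟩ := IsPGroup.iff_card.1 hA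
  obtain ⟨j, hj⟩ := IsPGroup.iff_card.1 (hA.to_subgroup K)
  rw [h1, ← Nat.card_eq_fintype_card, hk, hj] at h
  have hk' : k ≤ 11 := (Nat.pow_le_pow_iff_right (by norm_num)).1 (hk ▸ hcard : 2 ^ k ≤ 2 ^ 11)
  have hj' : j ≤ 11 := (Nat.pow_le_pow_iff_right (by norm_num)).1
    ((hj ▸ card_le_card_group K).trans hcard : 2 ^ j ≤ 2 ^ 11)
  have hall : K = ⊤ := eq_top_of_card_eq K (by rw [hj, hk, pow_eq_of_modEq k hk' j hj' h])
  have : (⟨a, ha⟩ : A) ∈ K := hall ▸ mem_top _
  rw [hK, mem_subgroupOf, mem_centralizer_singleton_iff] at this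
  exact this.symm

/-- The two involutions cannot exist. -/
theorem weak_false {z : G} {Q : Subgroup G} {π : G → V8} {ρ : G → qAut qm} (S : Setup z Q π ρ)
    (weak : ∀ v, IsConj z v → v ∈ Q → v = z) (h : G) (hne : h * z * h⁻¹ ≠ z)
    (hcomm : h * z * h⁻¹ * z = z * (h * z * h⁻¹)) : False := by
  classical
  haveI : Fact (Nat.Prime 449) := ⟨by norm_num⟩
  set u := h * z * h⁻¹ with hu
  have hzu : IsConj z u := isConj_iff.2 ⟨h, rfl⟩
  set Q' := Q.map (MulAut.conj h).toMonoidHom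
  have hmemQ' : ∀ x, x ∈ Q' ↔ h⁻¹ * x * h ∈ Q := fun x =>
    ⟨fun ⟨w, hw, hwx⟩ => by rw [← hwx]; simpa [mul_assoc] using hw, fun h => ⟨_, h, by simp [mul_assoc]⟩⟩
  have P : WPair z u Q Q' π (fun x => π (h⁻¹ * x * h)) ρ (fun x => ρ (h⁻¹ * x * h)) :=
    ⟨S, S.conj h, hzu, weak, fun w hw hwQ => by
      have h1 := weak _ (hw.trans (isConj_iff.2 ⟨h⁻¹, by rw [inv_inv]⟩)) ((hmemQ' w).1 hwQ)
      calc w = h * (h⁻¹ * w * h) * h⁻¹ := by group
        _ = u := by rw [h1], hne, hcomm⟩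
  set A := centralizer (bs u Q : Set G) with hA
  -- the configuration of the preimage
  set v' := h⁻¹ * z * h with hv'
  have hv'c : IsConj z v' := isConj_iff.2 ⟨h⁻¹, by rw [inv_inv]⟩
  have hv'ne : v' ≠ z := fun e => hne (by
    calc h * z * h⁻¹ = h * (h⁻¹ * z * h) * h⁻¹ := by rw [← hv', e]
      _ = z := by group)
  have hv'comm : v' * z = z * v' := by
    calc h⁻¹ * z * h * z = h⁻¹ * (z * (h * z * h⁻¹)) * h := by group
      _ = h⁻¹ * (u * z) * h := by rw [← hcomm]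
      _ = z * (h⁻¹ * z * h) := by rw [hu]; group
  obtain ⟨Q'', π'', ρ'', P2⟩ := WPair.of_conj S weak hv'c hv'ne hv'comm
  have hAA : ∀ x, x ∈ A ↔ h⁻¹ * x * h ∈ centralizer (bs v' Q : Set G) := by
    intro x
    rw [hA, P.cent_eq, mem_centralizer_iff, mem_centralizer_iff]
    have key : ∀ b, b ∈ bs z Q' ↔ h⁻¹ * b * h ∈ bs v' Q := fun b => by
      rw [mem_bs, mem_bs, hmemQ']
      refine and_congr_right fun _ => ?_
      constructor
      · intro e
        calc h⁻¹ * b * h * v' = h⁻¹ * (b * z) * h := by rw [hv']; group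
          _ = v' * (h⁻¹ * b * h) := by rw [e, hv']; group
      · intro e
        calc b * z = h * (h⁻¹ * b * h * v') * h⁻¹ := by rw [hv']; group
          _ = z * b := by rw [e, hv']; group
    constructor
    · intro hx b hb
      have := hx (h * b * h⁻¹) ((key _).2 (by
        rwa [show h⁻¹ * (h * b * h⁻¹) * h = b by group]))
      calc b * (h⁻¹ * x * h) = h⁻¹ * (h * b * h⁻¹ * x) * h := by group
        _ = h⁻¹ * x * h * b := by rw [this]; group
    · intro hx b hb
      have := hx _ ((key b).1 hb)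
      calc b * x = h * (h⁻¹ * b * h * (h⁻¹ * x * h)) * h⁻¹ := by group
        _ = x * b := by rw [this]; group
  have hzA : z ∈ A := mem_centralizer_iff.2 fun b hb => P.S.z_comm (mem_bs.1 hb).1
  -- the normalizer
  set N := normalizer (A : Set G) with hN
  have hNmem : ∀ m : G, (∀ a ∈ A, m * a * m⁻¹ ∈ A) → m ∈ N := fun m hm => by
    rw [hN, mem_normalizer_iff]
    refine fun a => ⟨hm a, fun ha => ?_⟩
    obtain ⟨⟨a', ha'⟩, e⟩ := (Finite.injective_iff_surjective (f := fun a : A => (⟨m * a * m⁻¹, hm _ a.2⟩ : A))).1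
      (fun x y h => Subtype.ext (mul_left_cancel (mul_right_cancel (congrArg (fun x : A => (x : G)) h))))
      ⟨_, ha⟩
    have e' : m * a' * m⁻¹ = m * a * m⁻¹ := congrArg (fun x : A => (x : G)) e
    rwa [← mul_left_cancel (mul_right_cancel e')]
  set O := {v : G | IsConj z v ∧ v ∈ A} with hO
  have hmove : ∀ b ∈ Yset z (bs u Q), b ≠ u → ∃ m ∈ N, m * b * m⁻¹ = z := by
    intro b hb hbu
    have hb' : h⁻¹ * b * h ∈ Yset z (bs v' Q) :=
      ⟨hb.1.trans (isConj_iff.2 ⟨h⁻¹, by rw [inv_inv]⟩), (hAA b).1 hb.2.1, fun e => hbu (by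
        calc b = h * (h⁻¹ * b * h) * h⁻¹ := by group
          _ = u := by rw [e])⟩
    obtain ⟨n, -, hn, hnA⟩ := P2.trans_Y hb' P2.u_Y
    refine ⟨h * n * h⁻¹, hNmem _ fun a ha => (hAA _).2 ?_, ?_⟩
    · rw [show h⁻¹ * (h * n * h⁻¹ * a * (h * n * h⁻¹)⁻¹) * h = n * (h⁻¹ * a * h) * n⁻¹ by group]
      exact hnA _ ((hAA a).1 ha)
    · calc h * n * h⁻¹ * b * (h * n * h⁻¹)⁻¹ = h * (n * (h⁻¹ * b * h) * n⁻¹) * h⁻¹ := by group
        _ = z := by rw [hn, hv']; group
  have htrans : ∀ b ∈ O, ∃ m ∈ N, m * z * m⁻¹ = b := by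
    rintro b ⟨hb, hbA⟩
    by_cases hbz : b = z
    · exact ⟨1, one_mem _, by rw [hbz]; group⟩
    have hbY : b ∈ Yset z (bs u Q) := ⟨hb, hbA, hbz⟩
    obtain ⟨c, hc, hcu⟩ : ∃ c, c ∈ Yset z (bs u Q) ∧ c ≠ u := by
      by_contra hn
      push Not at hn
      have h448 := P.card_Y
      haveI : Subsingleton (Yset z (bs u Q)) := ⟨fun a b => Subtype.ext ((hn _ a.2).trans (hn _ b.2).symm)⟩
      haveI : Nonempty (Yset z (bs u Q)) := ⟨⟨u, P.u_Y⟩⟩
      rw [Nat.card_unique] at h448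
      omega
    obtain ⟨m, hm, hmc⟩ := hmove c hc hcu
    obtain ⟨n, -, hn, hnA⟩ := P.trans_Y hc hbY
    refine ⟨n * m⁻¹, mul_mem (hNmem n hnA) (inv_mem hm), ?_⟩
    calc n * m⁻¹ * z * (n * m⁻¹)⁻¹ = n * (m⁻¹ * (m * c * m⁻¹) * m) * n⁻¹ := by rw [hmc]; group
      _ = b := by rw [← hn]; group
  have hcard : Nat.card O = 449 := by
    have e : O = insert z (Yset z (bs u Q)) := by
      ext v
      constructor
      · rintro ⟨a, b⟩
        by_cases hvz : v = z
        · exact .inl hvz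
        · exact .inr ⟨a, b, hvz⟩
      · rintro (rfl | ⟨a, b, -⟩)
        · exact ⟨IsConj.refl _, hzA⟩
        · exact ⟨a, b⟩
    have h448 := P.card_Y
    rw [Nat.card_coe_set_eq] at h448 ⊢
    rw [e, Set.ncard_insert_of_notMem (fun hz => hz.2.2 rfl) (Set.toFinite _), h448]
  set St : Subgroup N := (centralizer ({z} : Set G)).subgroupOf N with hSt
  have hidx : St.index = 449 := by
    rw [← hcard, index_eq_card]
    have hmem : ∀ m : N, (m : G) * z * (m : G)⁻¹ ∈ O := fun m =>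
      ⟨isConj_iff.2 ⟨m, rfl⟩, (mem_normalizer_iff.1 m.2 z).1 hzA⟩
    have hiff : ∀ m m' : N, m⁻¹ * m' ∈ St ↔ (m : G) * z * (m : G)⁻¹ = m' * z * (m' : G)⁻¹ := fun m m' => by
      rw [hSt, mem_subgroupOf, mem_centralizer_singleton_iff, coe_mul, coe_inv]
      constructor
      · intro e
        calc (m : G) * z * (m : G)⁻¹ = m * (z * ((m : G)⁻¹ * m')) * (m' : G)⁻¹ := by group
          _ = m' * z * (m' : G)⁻¹ := by rw [← e]; group
      · intro e
        calc (m : G)⁻¹ * m' * z = (m : G)⁻¹ * (m' * z * (m' : G)⁻¹) * m' := by group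
          _ = z * ((m : G)⁻¹ * m') := by rw [← e]; group
    refine Nat.card_congr (Equiv.ofBijective (Quotient.lift (fun m : N => (⟨_, hmem m⟩ : O))
      (fun m m' e => Subtype.ext ((hiff m m').1 (QuotientGroup.leftRel_apply.1 e)))) ⟨?_, ?_⟩)
    · rintro ⟨m⟩ ⟨m'⟩ e
      exact Quotient.sound (QuotientGroup.leftRel_apply.2 ((hiff m m').2 (congrArg (fun x : O => (x : G)) e)))
    · rintro ⟨b, hb⟩
      obtain ⟨m, hm, e⟩ := htrans b hb
      exact ⟨Quotient.mk _ ⟨m, hm⟩, Subtype.ext e⟩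
  obtain ⟨Psy⟩ : Nonempty (Sylow 449 N) := inferInstance
  have hle : (Psy : Subgroup N) ≤ St := by
    intro σ hσ
    obtain ⟨n, hn⟩ := Psy.2 ⟨σ, hσ⟩
    rw [hSt, mem_subgroupOf, mem_centralizer_singleton_iff]
    refine commute_of_prime_pow P.cent_isPGroup P.card_cent (σ := (σ : G))
      (fun a ha => (mem_normalizer_iff.1 σ.2 a).1 ha) (n := n) ?_ hzA
    exact congrArg (fun x : (Psy : Subgroup N) => ((x : N) : G)) hn
  have hdvd := index_dvd_of_le hle
  rw [hidx] at hdvd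
  exact Psy.not_dvd_index hdvd

/-- Some conjugate of the involution, other than it, lies in the extraspecial subgroup. -/
theorem exists_conj_mem {z : G} {Q : Subgroup G} {π : G → V8} {ρ : G → qAut qm} (S : Setup z Q π ρ)
    (hO : Cfsg.oddCore G = ⊥) (hZ : center G = ⊥) : ∃ g : G, g * z * g⁻¹ ∈ Q ∧ g * z * g⁻¹ ≠ z := by
  by_contra hn
  push Not at hn
  have weak : ∀ v, IsConj z v → v ∈ Q → v = z := fun v hv hvQ => by
    obtain ⟨g, rfl⟩ := isConj_iff.1 hv
    exact hn g hvQ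
  have hiso : ¬ Cfsg.IsIsolatedInvolution z := fun hI => S.z1 (by
    have := CfsgLib.Invol.zstar_center hI hO
    rwa [hZ, mem_bot] at this)
  have hord : orderOf z = 2 := orderOf_eq_prime (by rw [pow_two, S.z2]) S.z1
  simp only [Cfsg.IsIsolatedInvolution, hord, true_and, not_forall] at hiso
  obtain ⟨g, hc, hne⟩ := hiso
  exact weak_false S weak g hne hc.symm.eq

end CfsgLib.CoOneWeak
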