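import Mathlib
import Cfsg.Agent.Lib.CoOneRec.Weak.Main
import Cfsg.Agent.Lib.CoType.Hyp
import Cfsg.Agent.Lib.Classical.QuadSiegel
import Cfsg.Agent.Lib.Local.CharP
import Cfsg.Agent.Lib.PStab.FusionForms

/-!
From a constrained centralizer to the large extraspecial hypothesis.
-/

set_option autoImplicit false
set_option linter.style.haveILetI false

namespace CfsgLib.CoOneWeak

open Subgroup CfsgLib.Classical CfsgLib.CoType

local notation "q8" => Cfsg.quadFormPlus 4 (ZMod 2)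

theorem isSimpleGroup_omega8 : IsSimpleGroup (Cfsg.Omega (ZMod 2) q8) := by
  haveI : IsSimpleGroup (Cfsg.POmega (ZMod 2) (⇑(qPlus 4 (ZMod 2)))) :=
    isSimpleGroup_POmega _ (polarNondeg_qPlus 4) (by simp)
  have hc : Subgroup.center (Cfsg.Omega (ZMod 2) (⇑(qPlus 4 (ZMod 2)))) = ⊥ :=
    Subgroup.card_eq_one.1 (card_center_Omega_one _ (polarNondeg_qPlus 4) (by simp) fun _ => rfl)
  let e : Cfsg.Omega (ZMod 2) (⇑(qPlus 4 (ZMod 2))) ≃* Cfsg.POmega (ZMod 2) (⇑(qPlus 4 (ZMod 2))) :=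
    QuotientGroup.quotientBot.symm.trans (QuotientGroup.quotientMulEquivOfEq hc.symm)
  have := e.isSimpleGroup
  rwa [coe_qPlus] at this

variable {G : Type*} [Group G] [Finite G]

theorem hyp_of_constrained (hO : Cfsg.oddCore G = ⊥) (hZ : center G = ⊥) (t : G) (ht : orderOf t = 2)
    (hcon : Cfsg.IsPConstrained 2 (centralizer ({t} : Set G)))
    (hQ : Cfsg.IsExtraspecial 2 (Cfsg.pCore 2 (centralizer ({t} : Set G))))
    (hcard : Nat.card (Cfsg.pCore 2 (centralizer ({t} : Set G))) = 2 ^ 9)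
    (e : (centralizer ({t} : Set G)) ⧸ Cfsg.pCore 2 (centralizer ({t} : Set G)) ≃* Cfsg.Omega (ZMod 2) q8) :
    Cfsg.generalizedFittingSubgroup (centralizer ({t} : Set G)) = Cfsg.pCore 2 (centralizer ({t} : Set G)) ∧
      ∃ g : G, (∃ hq : g * t * g⁻¹ ∈ centralizer ({t} : Set G),
        (⟨g * t * g⁻¹, hq⟩ : centralizer ({t} : Set G)) ∈ Cfsg.pCore 2 (centralizer ({t} : Set G))) ∧
        g * t * g⁻¹ ≠ t := by
  classical
  haveI : Fact (Nat.Prime 2) := ⟨Nat.prime_two⟩
  set C := centralizer ({t} : Set G)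
  set Q := Cfsg.pCore 2 C with hQdef
  set T := Cfsg.pPrimeCore 2 C with hT
  haveI : T.Normal := by
    haveI := CfsgLib.Cores.pPrimeCore_characteristic (G := C) 2
    infer_instance
  have hTco : (Nat.card T).Coprime 2 := CfsgLib.Cores.coprime_card_pPrimeCore 2
  haveI : IsSimpleGroup (C ⧸ Q) := by
    haveI := isSimpleGroup_omega8
    exact e.isSimpleGroup
  have hcq : Nat.card (C ⧸ Q) = 174182400 := (Nat.card_congr e.toEquiv).trans card_omega
  have hTQ : T ≤ Q := by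
    haveI := Subgroup.Normal.map (H := T) inferInstance (QuotientGroup.mk' Q) (QuotientGroup.mk'_surjective Q)
    rcases IsSimpleGroup.eq_bot_or_eq_top_of_normal (T.map (QuotientGroup.mk' Q)) inferInstance with h | h
    · rw [← QuotientGroup.ker_mk' Q]
      exact (map_eq_bot_iff T).1 h
    · exfalso
      have hd : Nat.card (T.map (QuotientGroup.mk' Q)) ∣ Nat.card T := card_map_dvd _ _
      rw [h, card_top, hcq] at hd
      have h2 : Nat.Coprime 174182400 2 := hTco.coprime_dvd_left hd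
      norm_num at h2
  have hT1 : T = ⊥ := le_bot_iff.1 ((le_inf hTQ le_rfl).trans (CfsgLib.Cores.pCore_inf_pPrimeCore 2).le)
  have hchar : CfsgLib.Local.HasCharP 2 C := CfsgLib.PStab.centralizer_pCore_le_of_isPConstrained hT1 hcon
  have hF := CfsgLib.Local.HasCharP.generalizedFittingSubgroup_eq hchar
  refine ⟨hF, ?_⟩
  obtain ⟨π, ρ, S⟩ := setup_of_hyp_map t ht Q hF hQ hcard e
  obtain ⟨g, hg, hne⟩ := exists_conj_mem S hO hZ
  obtain ⟨⟨x, hx⟩, hxQ, hxe⟩ := hg
  change x = g * t * g⁻¹ at hxe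
  subst hxe
  exact ⟨g, ⟨hx, hxQ⟩, hne⟩

end CfsgLib.CoOneWeak
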